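import Groth.Agent.Sga3B.CellBase
import Groth.Agent.Sga3B.BorPoly991

/-!
# Reordering products of root groups

Let `pr L x = ∏_{a ∈ L} u_a(x_a)` (in the order of `L`).  If the products `pr L x` are closed under
multiplication, determine their coordinates and there is a contracting torus, then the same holds for
every reordering `L'` of `L`: `pr L' : B^L → G(B)` is injective with the same image.
-/

set_option autoImplicit false
set_option linter.unusedSectionVars false
universe u

open Groth.Agent.Sga3B.Cell MvPolynomial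
open scoped Polynomial LaurentPolynomial

namespace Groth.Agent.RedSub.H549.Reorder

section poly

variable {σ : Type} {R : Type u} [CommRing R]

/-- coefficients at monomials in the variables of `s` are unchanged when the other variables are
replaced by `0` -/
lemma coeff_of_subst (s : σ → Prop) [DecidablePred s] (Z : MvPolynomial σ R) (m : σ →₀ ℕ)
    (hm : ∀ j, ¬ s j → m j = 0) :
    coeff m (aeval (fun j => if s j then X j else (0 : MvPolynomial σ R)) Z) = coeff m Z := by
  classical
  induction Z using MvPolynomial.induction_on' with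
  | add p q hp hq => rw [map_add, coeff_add, coeff_add, hp, hq]
  | monomial m' r =>
    rw [aeval_monomial]
    by_cases h : ∀ j, ¬ s j → m' j = 0
    · congr 1
      rw [monomial_eq, algebraMap_eq]
      congr 1
      apply Finsupp.prod_congr
      intro j hj
      by_cases hs : s j
      · rw [if_pos hs]
      · exact absurd (h j hs) (Finsupp.mem_support_iff.mp hj)
    · push Not at h
      obtain ⟨j, hs, hj⟩ := h
      have h1 : (m'.prod fun i k => (if s i then X i else (0 : MvPolynomial σ R)) ^ k) = 0 := by
        apply Finset.prod_eq_zero (Finsupp.mem_support_iff.mpr hj)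
        simp [hj, hs]
      rw [h1, mul_zero, coeff_zero, coeff_monomial, if_neg]
      rintro rfl
      exact hj (hm j hs)

lemma weight_single (w : σ → ℕ) (v : σ) : Finsupp.weight w (Finsupp.single v 1) = w v := by
  rw [Finsupp.weight_apply, Finsupp.sum_single_index] <;> simp

lemma eq_single_of_weight {w : σ → ℕ} (hw : ∀ j, 0 < w j) {m : σ →₀ ℕ} {v : σ} (hv : v ∈ m.support)
    (h : Finsupp.weight w m ≤ w v) : m = Finsupp.single v 1 := by
  classical
  rw [Finsupp.weight_apply, Finsupp.sum] at h
  have h1 : 1 ≤ m v := Nat.one_le_iff_ne_zero.mpr (Finsupp.mem_support_iff.mp hv)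
  have hone : ∀ j ∈ m.support, j = v := by
    intro j hj
    by_contra hne
    have h3 : ∑ i ∈ ({v, j} : Finset σ), m i • w i ≤ ∑ i ∈ m.support, m i • w i := by
      apply Finset.sum_le_sum_of_subset
      intro i hi
      rcases Finset.mem_insert.mp hi with rfl | hi
      · exact hv
      · rw [Finset.mem_singleton.mp hi]; exact hj
    rw [Finset.sum_pair (Ne.symm hne)] at h3
    have h6 : 1 ≤ m j := Nat.one_le_iff_ne_zero.mpr (Finsupp.mem_support_iff.mp hj)
    have h4 := hw j
    simp only [smul_eq_mul] at h3
    simp only [smul_eq_mul] at h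
    nlinarith
  have hsupp : m.support = {v} := by
    ext j
    rw [Finset.mem_singleton]
    exact ⟨hone j, fun h => h ▸ hv⟩
  have hmv : m v = 1 := by
    rw [hsupp, Finset.sum_singleton, smul_eq_mul] at h
    have := hw v
    nlinarith
  ext j
  by_cases hj : j = v
  · subst hj; simp [hmv]
  · rw [Finsupp.single_eq_of_ne hj]
    by_contra hne
    exact hj (hone j (Finsupp.mem_support_iff.mpr hne))

/-- A weighted homogeneous polynomial of weight `w a` with linear part `x_a` in the variables of weight
`w a` is `x_a` plus a polynomial in variables of smaller weight. -/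
theorem dep [DecidableEq σ] (w : σ → ℕ) (hw : ∀ j, 0 < w j) (a : σ) (Z : MvPolynomial σ R)
    (hZ : ∀ m, coeff m Z ≠ 0 → Finsupp.weight w m = w a)
    (hlin : ∀ v, aeval (Pi.single v (X v) : σ → MvPolynomial σ R) Z =
      (Pi.single v (X v) : σ → MvPolynomial σ R) a)
    {B : Type*} [CommRing B] [Algebra R B] (x y : σ → B) (hxy : ∀ c, w c < w a → x c = y c) :
    aeval x Z - x a = aeval y Z - y a := by
  set D : MvPolynomial σ R := Z - X a with hD
  have hDw : ∀ m, coeff m D ≠ 0 → Finsupp.weight w m = w a := by
    intro m hm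
    by_cases h1 : coeff m Z = 0
    · rw [hD, coeff_sub, h1, coeff_X] at hm
      by_cases h2 : Finsupp.single a 1 = m
      · rw [← h2, weight_single]
      · simp [h2] at hm
    · exact hZ m h1
  have hDs : ∀ v, coeff (Finsupp.single v 1) D = 0 := by
    intro v
    have h1 := coeff_of_subst (fun j => j = v) D (Finsupp.single v 1)
      (fun j hj => Finsupp.single_eq_of_ne hj)
    have h2 : (fun j => if j = v then X j else (0 : MvPolynomial σ R)) =
        (Pi.single v (X v) : σ → MvPolynomial σ R) := by
      funext j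
      by_cases h : j = v
      · subst h; simp
      · rw [if_neg h, Pi.single_eq_of_ne h]
    rw [← h1, h2, hD, map_sub, hlin, aeval_X, sub_self, coeff_zero]
  have hvars : ∀ v ∈ D.vars, w v < w a := by
    intro v hv
    obtain ⟨m, hm, hvm⟩ := (mem_vars_iff_mem_support v).mp hv
    have hm0 : coeff m D ≠ 0 := mem_support_iff.mp hm
    by_contra hlt
    push Not at hlt
    have h1 := eq_single_of_weight hw hvm ((hDw m hm0).le.trans hlt)
    rw [h1] at hm0
    exact hm0 (hDs v)
  have hDD : aeval x D = aeval y D := by
    apply MvPolynomial.eval₂Hom_congr' rfl _ rfl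
    intro j hj _
    exact hxy j (hvars j hj)
  rw [hD, map_sub, map_sub, aeval_X, aeval_X] at hDD
  exact hDD

end poly

section pts

variable {idx : Type} {R A : Type u} [CommRing R] [CommRing A] [Algebra R A] [PtGrp R A]

/-- products of root elements -/
def pr (uu : idx → ∀ (B : Type u) [CommRing B] [Algebra R B], B → Pt R A B) (L : List idx)
    {B : Type u} [CommRing B] [Algebra R B] (x : idx → B) : Pt R A B :=
  (L.map fun a => uu a B (x a)).prod

/-- the hypotheses for the reordering -/
structure Hyp (uu : idx → ∀ (B : Type u) [CommRing B] [Algebra R B], B → Pt R A B)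
    (L : List idx) (w : idx → ℕ) : Prop where
  nat : ∀ (a : idx) {B C : Type u} [CommRing B] [Algebra R B] [CommRing C] [Algebra R C]
    (φ : B →ₐ[R] C) (x : B), Pt.map φ (uu a B x) = uu a C (φ x)
  zero : ∀ (a : idx) {B : Type u} [CommRing B] [Algebra R B], uu a B 0 = 1
  nodup : L.Nodup
  wpos : ∀ a, 0 < w a
  scale : ∀ {B : Type u} [CommRing B] [Algebra R B] (v : Bˣ), ∃ θ : Pt R A B, ∀ a ∈ L, ∀ x : B,
    θ * uu a B x * θ⁻¹ = uu a B ((v : B) ^ w a * x)
  mul : ∀ {B : Type u} [CommRing B] [Algebra R B] (x y : idx → B), ∃ z : idx → B,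
    pr uu L x * pr uu L y = pr uu L z
  inj : ∀ {B : Type u} [CommRing B] [Algebra R B] (x y : idx → B), pr uu L x = pr uu L y →
    ∀ a ∈ L, x a = y a

variable {uu : idx → ∀ (B : Type u) [CommRing B] [Algebra R B], B → Pt R A B} {L : List idx}
  {w : idx → ℕ} (H : Hyp uu L w)

section
variable {B C : Type u} [CommRing B] [Algebra R B] [CommRing C] [Algebra R C]

include H in
lemma pr_nat (φ : B →ₐ[R] C) (l : List idx) (x : idx → B) :
    Pt.map φ (pr uu l x) = pr uu l (fun a => φ (x a)) := by
  unfold pr
  rw [Pt.map_list_prod, List.map_map]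
  congr 1
  apply List.map_congr_left
  intro a _
  exact H.nat a φ _

lemma pr_congr {l : List idx} {x y : idx → B} (h : ∀ a ∈ l, x a = y a) : pr uu l x = pr uu l y := by
  unfold pr
  congr 1
  apply List.map_congr_left
  intro a ha
  rw [h a ha]

include H in
lemma pr_eq_one {l : List idx} {x : idx → B} (h : ∀ a ∈ l, x a = 0) : pr uu l x = 1 := by
  unfold pr
  apply List.prod_eq_one
  intro y hy
  obtain ⟨a, ha, rfl⟩ := List.mem_map.mp hy
  rw [h a ha, H.zero]

include H in
lemma pr_zero (l : List idx) : pr uu l (0 : idx → B) = 1 := pr_eq_one H (fun _ _ => rfl)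

include H in
lemma pr_single [DecidableEq idx] {l : List idx} (hl : l.Nodup) {a : idx} (ha : a ∈ l) (x : B) :
    pr uu l (Pi.single a x) = uu a B x := by
  induction l with
  | nil => simp at ha
  | cons d l ih =>
    rw [List.nodup_cons] at hl
    have hc : pr uu (d :: l) (Pi.single a x : idx → B) =
        uu d B ((Pi.single a x : idx → B) d) * pr uu l (Pi.single a x : idx → B) := by
      simp [pr]
    rw [hc]
    by_cases hda : d = a
    · subst hda
      rw [Pi.single_eq_same, pr_eq_one H, mul_one]
      intro c hc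
      have hcd : c ≠ d := fun h => hl.1 (by rw [← h]; exact hc)
      exact Pi.single_eq_of_ne hcd _
    · have ha' : a ∈ l := by
        rcases List.mem_cons.mp ha with h | h
        · exact absurd h.symm hda
        · exact h
      rw [Pi.single_eq_of_ne hda, H.zero, one_mul]
      exact ih hl.2 ha'

include H in
lemma conj_pr {v : Bˣ} {θ : Pt R A B}
    (hθ : ∀ a ∈ L, ∀ x : B, θ * uu a B x * θ⁻¹ = uu a B ((v : B) ^ w a * x))
    {l : List idx} (hl : ∀ a ∈ l, a ∈ L) (x : idx → B) :
    θ * pr uu l x * θ⁻¹ = pr uu l (fun a => (v : B) ^ w a * x a) := by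
  induction l with
  | nil => simp [pr]
  | cons d l ih =>
    have h1 : ∀ y : idx → B, pr uu (d :: l) y = uu d B (y d) * pr uu l y := fun y => by simp [pr]
    rw [h1, h1, ← ih (fun a ha => hl a (List.mem_cons_of_mem _ ha)),
      ← hθ d (hl d List.mem_cons_self)]
    group

include H in
lemma exists_pr_of_list [DecidableEq idx] {l : List idx} (hl : ∀ a ∈ l, a ∈ L) (x : idx → B) :
    ∃ y : idx → B, pr uu l x = pr uu L y := by
  induction l with
  | nil => exact ⟨0, by rw [pr_zero H]; simp [pr]⟩
  | cons d l ih =>
    obtain ⟨y, hy⟩ := ih (fun a ha => hl a (List.mem_cons_of_mem _ ha))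
    obtain ⟨z, hz⟩ := H.mul (Pi.single d (x d)) y
    refine ⟨z, ?_⟩
    rw [← hz, pr_single H H.nodup (hl d List.mem_cons_self), ← hy]
    simp [pr]

end

variable {L' : List idx} (hL' : L'.Nodup) (hmem : ∀ a, a ∈ L' ↔ a ∈ L)

include H hL' hmem in
/-- **The reordering polynomials.** -/
theorem exists_poly : ∃ F : idx → MvPolynomial idx R,
    (∀ {B : Type u} [CommRing B] [Algebra R B] (x : idx → B),
      pr uu L' x = pr uu L (fun a => aeval x (F a))) ∧
    (∀ a ∈ L, ∀ {B : Type u} [CommRing B] [Algebra R B] (x y : idx → B),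
      (∀ c ∈ L, w c < w a → x c = y c) → aeval x (F a) - x a = aeval y (F a) - y a) := by
  classical
  obtain ⟨F, hF⟩ := exists_pr_of_list H (l := L') (fun a ha => (hmem a).mp ha)
    (fun a => (X a : MvPolynomial idx R))
  have hF1 : ∀ {B : Type u} [CommRing B] [Algebra R B] (x : idx → B),
      pr uu L' x = pr uu L (fun a => aeval x (F a)) := by
    intro B _ _ x
    have h1 := congrArg (Pt.map (aeval x : MvPolynomial idx R →ₐ[R] B)) hF
    rw [pr_nat H, pr_nat H] at h1
    simpa only [aeval_X] using h1
  refine ⟨F, hF1, ?_⟩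
  -- weights
  have hscale : ∀ {B : Type u} [CommRing B] [Algebra R B] (v : Bˣ) (x : idx → B), ∀ a ∈ L,
      aeval (fun a => (v : B) ^ w a * x a) (F a) = (v : B) ^ w a * aeval x (F a) := by
    intro B _ _ v x a ha
    obtain ⟨θ, hθ⟩ := H.scale v
    have h1 := conj_pr H hθ (l := L') (fun a ha => (hmem a).mp ha) x
    rw [hF1, hF1, conj_pr H hθ (fun a ha => ha)] at h1
    exact (H.inj _ _ h1 a ha).symm
  have hweight : ∀ a ∈ L, ∀ m, coeff m (F a) ≠ 0 → Finsupp.weight w m = w a := by
    intro a ha m hm
    apply Sga3B.BorPoly991.coeff_scale w (F a) m _ ?_ hm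
    apply Polynomial.toLaurent_injective
    let S := MvPolynomial idx R
    let v : S[T;T⁻¹]ˣ := ⟨LaurentPolynomial.T 1, LaurentPolynomial.T (-1), by
      rw [← LaurentPolynomial.T_add]; simp, by rw [← LaurentPolynomial.T_add]; simp⟩
    let ι : S →ₐ[R] S[T;T⁻¹] := IsScalarTower.toAlgHom R S S[T;T⁻¹]
    let κ : S[X] →ₐ[R] S[T;T⁻¹] := (Polynomial.toLaurentAlg (R := S)).restrictScalars R
    have h := hscale v (fun a => ι (X a)) a ha
    have h1 : aeval (fun a => ι (X a)) (F a) = ι (F a) := by
      have h2 : (aeval (fun a => ι (X a)) : S →ₐ[R] S[T;T⁻¹]) = ι := by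
        apply MvPolynomial.algHom_ext
        intro a
        simp
      rw [h2]
    have h3 : κ.comp (aeval (fun v => (Polynomial.C (X v) * Polynomial.X ^ (w v) :
        Polynomial S))) = aeval (fun a => (v : S[T;T⁻¹]) ^ w a * ι (X a)) := by
      have e1 : ∀ z : S, κ (Polynomial.C z) = ι z := fun z => Polynomial.toLaurent_C z
      have e2 : κ Polynomial.X = (v : S[T;T⁻¹]) := Polynomial.toLaurent_X
      apply MvPolynomial.algHom_ext
      intro a
      rw [AlgHom.comp_apply, aeval_X, aeval_X, map_mul, map_pow, e1, e2, mul_comm]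
    have h4 := congrArg (fun φ : S →ₐ[R] S[T;T⁻¹] => φ (F a)) h3
    refine (h4.trans (h.trans ?_))
    rw [h1, map_mul, map_pow, Polynomial.toLaurent_X, Polynomial.toLaurent_C, mul_comm]
    rfl
  -- the linear part
  have hlin : ∀ a ∈ L, ∀ v ∈ L, aeval (Pi.single v (X v) : idx → MvPolynomial idx R) (F a) =
      (Pi.single v (X v) : idx → MvPolynomial idx R) a := by
    intro a ha v hv
    have h1 := hF1 (Pi.single v (X v) : idx → MvPolynomial idx R)
    rw [pr_single H hL' ((hmem v).mpr hv), ← pr_single H H.nodup hv] at h1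
    exact (H.inj _ _ h1 a ha).symm
  -- replace the variables outside `L` by `0`
  intro a ha B _ _ x y hxy
  let r : ∀ {B : Type u} [CommRing B], (idx → B) → idx → B :=
    fun {B} _ x a => if a ∈ L then x a else 0
  have hr : ∀ {B : Type u} [CommRing B] [Algebra R B] (x : idx → B), ∀ a ∈ L,
      aeval (r x) (F a) = aeval x (F a) := by
    intro B _ _ x a ha
    have h1 : pr uu L' (r x) = pr uu L' x := pr_congr fun a ha => by
      simp [r, (hmem a).mp ha]
    rw [hF1, hF1] at h1
    exact H.inj _ _ h1 a ha
  -- the polynomial with the variables outside `L` killed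
  let Z : MvPolynomial idx R := aeval (r (fun a => (X a : MvPolynomial idx R))) (F a)
  have hZF : Z = F a := by
    change aeval _ (F a) = F a
    rw [hr _ a ha, aeval_X_left_apply]
  have hlin' : ∀ v, aeval (Pi.single v (X v) : idx → MvPolynomial idx R) (F a) =
      (Pi.single v (X v) : idx → MvPolynomial idx R) a := by
    intro v
    by_cases hv : v ∈ L
    · exact hlin a ha v hv
    · rw [← hr _ a ha]
      have h1 : r (Pi.single v (X v) : idx → MvPolynomial idx R) = 0 := by
        funext c
        by_cases hc : c ∈ L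
        · have : c ≠ v := fun h => hv (h ▸ hc)
          simp [r, hc, Pi.single_eq_of_ne this]
        · simp [r, hc]
      have hav : a ≠ v := fun h => hv (h ▸ ha)
      rw [h1, Pi.single_eq_of_ne hav]
      have h2 := hF1 (0 : idx → MvPolynomial idx R)
      rw [pr_zero H, ← pr_zero H L] at h2
      exact (H.inj _ _ h2 a ha).symm
  have h1 := dep w H.wpos a (F a) (hweight a ha) hlin' (r x) (r y) (by
    intro c hc
    by_cases hcL : c ∈ L
    · simp [r, hcL, hxy c hcL hc]
    · simp [r, hcL])
  rw [hr x a ha, hr y a ha] at h1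
  simpa [r, ha] using h1

variable {B : Type u} [CommRing B] [Algebra R B]

include H hL' hmem in
/-- a product in the order `L'` as a product in the order `L`; the minimal coordinates are unchanged -/
theorem exists_pr_eq (x : idx → B) : ∃ z : idx → B, pr uu L' x = pr uu L z ∧
    ∀ a ∈ L, (∀ c ∈ L, w a ≤ w c) → z a = x a := by
  obtain ⟨F, hF, hdep⟩ := exists_poly H hL' hmem
  refine ⟨_, hF x, ?_⟩
  intro a ha hmin
  have h1 := hdep a ha x 0 (fun c hc hlt => absurd hlt (not_lt.mpr (hmin c hc)))
  have h2 : aeval (0 : idx → B) (F a) = 0 := by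
    have h3 := hF (0 : idx → B)
    rw [pr_zero H, ← pr_zero H L] at h3
    exact (H.inj _ _ h3 a ha).symm
  rw [h2, Pi.zero_apply, sub_self, sub_eq_zero] at h1
  exact h1

include H hL' hmem in
/-- the products in the order `L'` determine their coordinates -/
theorem pr_inj {x y : idx → B} (h : pr uu L' x = pr uu L' y) : ∀ a ∈ L, x a = y a := by
  obtain ⟨F, hF, hdep⟩ := exists_poly H hL' hmem
  rw [hF, hF] at h
  have h1 := H.inj _ _ h
  have key : ∀ n : ℕ, ∀ a ∈ L, w a < n → x a = y a := by
    intro n
    induction n with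
    | zero => intro a _ h; omega
    | succ n ih =>
      intro a ha hn
      have h2 := hdep a ha x y (fun c hc hlt => ih c hc (by omega))
      rw [h1 a ha] at h2
      exact sub_right_injective h2
  intro a ha
  exact key (w a + 1) a ha (by omega)

include H hL' hmem in
/-- every product in the order `L` is a product in the order `L'` -/
theorem exists_pr_eq' (z : idx → B) : ∃ x : idx → B, pr uu L z = pr uu L' x := by
  classical
  obtain ⟨F, hF, hdep⟩ := exists_poly H hL' hmem
  have key : ∀ n : ℕ, ∃ x : idx → B, ∀ a ∈ L, w a < n → aeval x (F a) = z a := by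
    intro n
    induction n with
    | zero => exact ⟨0, fun a _ h => by omega⟩
    | succ n ih =>
      obtain ⟨x, hx⟩ := ih
      refine ⟨fun a => if w a = n then x a + z a - aeval x (F a) else x a, ?_⟩
      intro a ha hn
      have h1 := hdep a ha (fun a => if w a = n then x a + z a - aeval x (F a) else x a) x
        (fun c hc hlt => by simp [show w c ≠ n by omega])
      by_cases hwa : w a = n
      · simp only [hwa, if_true] at h1
        linear_combination h1
      · simp only [hwa, if_false] at h1
        rw [← hx a ha (by omega)]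
        linear_combination h1
  obtain ⟨N, hN⟩ : ∃ N : ℕ, ∀ a ∈ L, w a < N := by
    have : ∀ l : List idx, ∃ N : ℕ, ∀ a ∈ l, w a < N := by
      intro l
      induction l with
      | nil => exact ⟨0, by simp⟩
      | cons d l ih =>
        obtain ⟨N, hN⟩ := ih
        refine ⟨max N (w d + 1), ?_⟩
        intro a ha
        rcases List.mem_cons.mp ha with rfl | h
        · omega
        · have := hN a h
          omega
    exact this L
  obtain ⟨x, hx⟩ := key N
  refine ⟨x, ?_⟩
  rw [hF]
  apply pr_congr
  intro a ha
  exact (hx a ha (hN a ha)).symm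

end pts

end Groth.Agent.RedSub.H549.Reorder
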