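import Groth.Agent.RedSub.H549.Fibres
import Groth.Agent.RedSub.H549.Reorder

/-!
# From `CellGrp` to `PinCell`

`toPinCell`: a `CellGrp P b R A` which is smooth, finitely presented with geometrically integral fibres is a
`PinCell P b R A` (the latter uses unordered lists of roots).
`toPinCell_of_matGrp`: the same for `MatGrp S R A`, `A` a domain, flat, f.p. with smooth big cell over a reduced
ring.
-/

set_option autoImplicit false
set_option linter.unusedSectionVars false
universe u

open Groth.Agent.Sga3B.Cell Groth.Agent.RedSub.H630.ChevDefs Groth.Agent.Redsub.H632.X3Defs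
open TensorProduct

namespace Groth.Agent.RedSub.H549.ToPin

open Reorder

variable {idx M : Type} [Fintype idx] [AddCommGroup M] [Module.Free ℤ M] [Module.Finite ℤ M]
  {P : RootPairing idx ℤ M (Module.Dual ℤ M)} {b : P.Base}
  {R A : Type u} [CommRing R] [CommRing A] [Algebra R A] [PtGrp R A] (E : CellGrp P b R A)
  {B C : Type u} [CommRing B] [Algebra R B] [CommRing C] [Algebra R C]

lemma uu_zero (a : idx) : E.uu a B (0 : B) = 1 := by
  have h := E.uu_add a (0 : B) 0
  rw [add_zero] at h
  exact (mul_eq_left.mp h.symm)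

lemma pr_congr' (L : List idx) {x y : idx → B} (h : ∀ a ∈ L, x a = y a) :
    pr E.uu L x = pr E.uu L y := Reorder.pr_congr h

/-- the cell product determines the coordinates -/
lemma cell_unique {x x' : idx → B} {t t' : TPt M B} {y y' : idx → B}
    (h : pr E.uu E.negL y * E.i B t * pr E.uu E.posL x =
      pr E.uu E.negL y' * E.i B t' * pr E.uu E.posL x') :
    (∀ a, ¬ b.IsPos a → y a = y' a) ∧ t = t' ∧ (∀ a, b.IsPos a → x a = x' a) := by
  classical
  have key : ∀ (x y : idx → B) (t : TPt M B), pr E.uu E.negL y * E.i B t * pr E.uu E.posL x =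
      pr E.uu E.negL (fun a => if b.IsPos a then x a else y a) * E.i B t *
        pr E.uu E.posL (fun a => if b.IsPos a then x a else y a) := by
    intro x y t
    congr 1
    · congr 1
      apply pr_congr'
      intro a ha
      simp [(E.mem_negL a).mp ha]
    · apply pr_congr'
      intro a ha
      simp [(E.mem_posL a).mp ha]
  rw [key x y t, key x' y' t'] at h
  obtain ⟨h1, h2⟩ := E.cell_inj _ _ _ _ h
  refine ⟨fun a ha => ?_, h2, fun a ha => ?_⟩
  · have := congrFun h1 a
    simpa [ha] using this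
  · have := congrFun h1 a
    simpa [ha] using this

lemma pr_zero' (L : List idx) : pr E.uu L (0 : idx → B) = 1 := by
  unfold pr
  apply List.prod_eq_one
  intro y hy
  obtain ⟨a, -, rfl⟩ := List.mem_map.mp hy
  exact uu_zero E a

/-- the absolute value of a multiple of the height -/
noncomputable def wt (b : P.Base) (a : idx) : ℕ :=
  ((Sga3B.PinComb.exists_height_functional b).choose (P.root a)).natAbs

lemma exists_lam (b : P.Base) : ∃ (lam : M →+ ℤ) (n : ℤ), 0 < n ∧
    (∀ i, lam (P.root i) = n * b.height i) ∧ ∀ a, wt b a = (lam (P.root a)).natAbs := by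
  obtain ⟨n, hn, h⟩ := (Sga3B.PinComb.exists_height_functional b).choose_spec
  exact ⟨_, n, hn, h, fun a => rfl⟩

lemma wt_pos (b : P.Base) (a : idx) : 0 < wt b a := by
  obtain ⟨lam, n, hn, h, hw⟩ := exists_lam b
  rw [hw, h]
  exact Int.natAbs_pos.mpr (mul_ne_zero hn.ne' (b.height_ne_zero a))

lemma wt_le (b : P.Base) {a : idx} (ha : b.height a = 1 ∨ b.height a = -1) (c : idx) :
    wt b a ≤ wt b c := by
  obtain ⟨lam, n, hn, h, hw⟩ := exists_lam b
  rw [hw, hw, h, h, Int.natAbs_mul, Int.natAbs_mul]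
  apply Nat.mul_le_mul_left
  have h1 : (b.height a).natAbs = 1 := by rcases ha with h | h <;> rw [h] <;> rfl
  rw [h1]
  exact Int.natAbs_pos.mpr (b.height_ne_zero c)

theorem hyp_pos : Hyp E.uu E.posL (wt b) where
  nat := E.uu_nat
  zero a _ _ _ := uu_zero E a
  nodup := E.posL_nodup
  wpos := wt_pos b
  scale {B} _ _ v := by
    obtain ⟨lam, n, hn, h, hw⟩ := exists_lam b
    refine ⟨E.i B (TPt.cow lam.toIntLinearMap v), fun a ha x => ?_⟩
    rw [E.rel, TPt.ch_cow]
    congr 2
    have h1 : lam.toIntLinearMap (P.root a) = (wt b a : ℤ) := by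
      rw [hw]
      symm
      apply Int.natAbs_of_nonneg
      rw [h]
      exact (mul_pos hn ((E.mem_posL a).mp ha)).le
    rw [h1, zpow_natCast, Units.val_pow_eq_pow_val]
  mul x y := by
    obtain ⟨z, hz, -⟩ := E.pos_mul x y
    exact ⟨z, hz⟩
  inj {B} _ _ x y h a ha := by
    have h1 : pr E.uu E.negL (0 : idx → B) * E.i B 1 * pr E.uu E.posL x =
        pr E.uu E.negL (0 : idx → B) * E.i B 1 * pr E.uu E.posL y := by rw [h]
    exact (cell_unique E h1).2.2 a ((E.mem_posL a).mp ha)

lemma height_neg_of_not_isPos {a : idx} (ha : ¬ b.IsPos a) : b.height a < 0 := by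
  rcases lt_trichotomy (b.height a) 0 with h | h | h
  · exact h
  · exact absurd h (b.height_ne_zero a)
  · exact absurd h ha

theorem hyp_neg : Hyp E.uu E.negL (wt b) where
  nat := E.uu_nat
  zero a _ _ _ := uu_zero E a
  nodup := E.negL_nodup
  wpos := wt_pos b
  scale {B} _ _ v := by
    obtain ⟨lam, n, hn, h, hw⟩ := exists_lam b
    refine ⟨E.i B (TPt.cow (-lam).toIntLinearMap v), fun a ha x => ?_⟩
    rw [E.rel, TPt.ch_cow]
    congr 2
    have h1 : (-lam).toIntLinearMap (P.root a) = (wt b a : ℤ) := by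
      rw [hw]
      have h2 : lam (P.root a) < 0 := by
        rw [h]
        exact mul_neg_of_pos_of_neg hn (height_neg_of_not_isPos ((E.mem_negL a).mp ha))
      change -(lam (P.root a)) = _
      omega
    rw [h1, zpow_natCast, Units.val_pow_eq_pow_val]
  mul x y := by
    obtain ⟨z, hz, -⟩ := E.neg_mul x y
    exact ⟨z, hz⟩
  inj {B} _ _ x y h a ha := by
    have h1 : pr E.uu E.negL x * E.i B 1 * pr E.uu E.posL (0 : idx → B) =
        pr E.uu E.negL y * E.i B 1 * pr E.uu E.posL (0 : idx → B) := by rw [h]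
    exact (cell_unique E h1).1 a ((E.mem_negL a).mp ha)

lemma mem_posList' (a : idx) : a ∈ posList b ↔ a ∈ E.posL := by
  rw [mem_posList, E.mem_posL]

lemma mem_negList' (a : idx) : a ∈ negList b ↔ a ∈ E.negL := by
  rw [mem_negList, E.mem_negL]

lemma prod_allList (x : idx → B) : ((allList b).map (fun a => E.uu a B (x a))).prod =
    pr E.uu (negList b) x * pr E.uu (posList b) x := by
  rw [allList, List.map_append, List.prod_append]
  rfl

lemma pr_mul_i (L : List idx) (t : TPt M B) (x : idx → B) :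
    pr E.uu L x * E.i B t = E.i B t * pr E.uu L (fun a => TPt.ch (P.root a) t⁻¹ * x a) := by
  have hc : ∀ a, E.uu a B (x a) * E.i B t =
      E.i B t * E.uu a B (TPt.ch (P.root a) t⁻¹ * x a) := by
    intro a
    have hi : E.i B t⁻¹ = (E.i B t)⁻¹ := map_inv (E.i B) t
    rw [← E.rel, hi]
    group
  induction L with
  | nil => simp [pr]
  | cons d L ih =>
    have h1 : ∀ y : idx → B, pr E.uu (d :: L) y = E.uu d B (y d) * pr E.uu L y := fun y => by
      simp [pr]
    rw [h1, h1, mul_assoc, ih, ← mul_assoc, hc, mul_assoc]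

lemma ch_inv_mul_cancel (m : M) (t : TPt M B) (x : B) :
    TPt.ch m t⁻¹ * (TPt.ch m t * x) = x := by
  rw [← mul_assoc, ← TPt.ch_mul, show t⁻¹ * t = 1 from inv_mul_cancel t, TPt.ch_one, one_mul]

lemma i_mul_pr (L : List idx) (t : TPt M B) (x : idx → B) :
    E.i B t * pr E.uu L x = pr E.uu L (fun a => TPt.ch (P.root a) t * x a) * E.i B t := by
  rw [pr_mul_i]
  simp only [ch_inv_mul_cancel]

/-- the two forms of the big cell -/
lemma cell_iff (g : Pt R A B) :
    (∃ (x : idx → B) (t : TPt M B),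
      g = ((allList b).map (fun a => E.uu a B (x a))).prod * E.i B t) ↔
    ∃ (x : idx → B) (t : TPt M B), g = (E.negL.map fun a => E.uu a B (x a)).prod * E.i B t *
      (E.posL.map fun a => E.uu a B (x a)).prod := by
  classical
  constructor
  · rintro ⟨x, t, rfl⟩
    rw [prod_allList, mul_assoc, pr_mul_i, ← mul_assoc]
    obtain ⟨y, hy, -⟩ := exists_pr_eq (hyp_neg E) (negList_nodup b) (mem_negList' E) x
    obtain ⟨z, hz, -⟩ := exists_pr_eq (hyp_pos E) (posList_nodup b) (mem_posList' E)
      (fun a => TPt.ch (P.root a) t⁻¹ * x a)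
    refine ⟨fun a => if b.IsPos a then z a else y a, t, ?_⟩
    rw [hy, hz]
    change _ = pr E.uu E.negL _ * _ * pr E.uu E.posL _
    congr 1
    · congr 1
      apply pr_congr'
      intro a ha
      simp [(E.mem_negL a).mp ha]
    · apply pr_congr'
      intro a ha
      simp [(E.mem_posL a).mp ha]
  · rintro ⟨x, t, rfl⟩
    change ∃ _ _, pr E.uu E.negL x * _ * pr E.uu E.posL x = _
    obtain ⟨y, hy⟩ := exists_pr_eq' (hyp_neg E) (negList_nodup b) (mem_negList' E) x
    obtain ⟨z, hz⟩ := exists_pr_eq' (hyp_pos E) (posList_nodup b) (mem_posList' E) x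
    refine ⟨fun a => if b.IsPos a then TPt.ch (P.root a) t * z a else y a, t, ?_⟩
    rw [hy, hz, prod_allList, mul_assoc, i_mul_pr, ← mul_assoc]
    congr 1
    congr 1
    · apply pr_congr'
      intro a ha
      simp [(mem_negList b).mp ha]
    · apply pr_congr'
      intro a ha
      simp [(mem_posList b).mp ha]

lemma cell_inj_all (x x' : idx → B) (t t' : TPt M B)
    (h : ((allList b).map (fun a => E.uu a B (x a))).prod * E.i B t =
      ((allList b).map (fun a => E.uu a B (x' a))).prod * E.i B t') : x = x' ∧ t = t' := by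
  rw [prod_allList, prod_allList, mul_assoc, mul_assoc, pr_mul_i, pr_mul_i, ← mul_assoc,
    ← mul_assoc] at h
  obtain ⟨y, hy, -⟩ := exists_pr_eq (hyp_neg E) (negList_nodup b) (mem_negList' E) x
  obtain ⟨y', hy', -⟩ := exists_pr_eq (hyp_neg E) (negList_nodup b) (mem_negList' E) x'
  obtain ⟨z, hz, -⟩ := exists_pr_eq (hyp_pos E) (posList_nodup b) (mem_posList' E)
      (fun a => TPt.ch (P.root a) t⁻¹ * x a)
  obtain ⟨z', hz', -⟩ := exists_pr_eq (hyp_pos E) (posList_nodup b) (mem_posList' E)
      (fun a => TPt.ch (P.root a) t'⁻¹ * x' a)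
  rw [hy, hy', hz, hz'] at h
  obtain ⟨h1, rfl, h3⟩ := cell_unique E h
  refine ⟨?_, rfl⟩
  have h4 : pr E.uu (negList b) x = pr E.uu (negList b) x' := by
    rw [hy, hy']
    exact pr_congr' E _ fun a ha => h1 a ((E.mem_negL a).mp ha)
  have h5 : pr E.uu (posList b) (fun a => TPt.ch (P.root a) t⁻¹ * x a) =
      pr E.uu (posList b) (fun a => TPt.ch (P.root a) t⁻¹ * x' a) := by
    rw [hz, hz']
    exact pr_congr' E _ fun a ha => h3 a ((E.mem_posL a).mp ha)
  funext a
  by_cases ha : b.IsPos a
  · have h6 := pr_inj (hyp_pos E) (posList_nodup b) (mem_posList' E) h5 a ((E.mem_posL a).mpr ha)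
    exact (TPt.isUnit_ch _ _).mul_left_cancel h6
  · exact pr_inj (hyp_neg E) (negList_nodup b) (mem_negList' E) h4 a ((E.mem_negL a).mpr ha)

lemma height_reflectionPerm_self (a : idx) : b.height (P.reflectionPerm a a) = - b.height a := by
  let := P.indexNeg
  exact b.height_reflectionPerm_self a

lemma pos_mul_all (x y : idx → B) : ∃ z : idx → B,
    pr E.uu (posList b) x * pr E.uu (posList b) y = pr E.uu (posList b) z ∧
      ∀ a ∈ b.support, z a = x a + y a := by
  obtain ⟨x', hx, hx'⟩ := exists_pr_eq (hyp_pos E) (posList_nodup b) (mem_posList' E) x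
  obtain ⟨y', hy, hy'⟩ := exists_pr_eq (hyp_pos E) (posList_nodup b) (mem_posList' E) y
  obtain ⟨z', hz, hz'⟩ := E.pos_mul x' y'
  obtain ⟨z, h1⟩ := exists_pr_eq' (hyp_pos E) (posList_nodup b) (mem_posList' E) z'
  obtain ⟨z'', h2, h3⟩ := exists_pr_eq (hyp_pos E) (posList_nodup b) (mem_posList' E) z
  refine ⟨z, by rw [hx, hy, ← h1]; exact hz, ?_⟩
  intro a ha
  have haL : a ∈ E.posL := (E.mem_posL a).mpr (RootPairing.Base.isPos_of_mem_support ha)
  have hmin : ∀ c ∈ E.posL, wt b a ≤ wt b c := fun c _ =>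
    wt_le b (Or.inl (RootPairing.Base.height_one_of_mem_support ha)) c
  have h4 := (hyp_pos E).inj _ _ (h2.symm.trans h1.symm) a haL
  rw [← h3 a haL hmin, h4, hz' a ha, hx' a haL hmin, hy' a haL hmin]

lemma neg_mul_all (x y : idx → B) : ∃ z : idx → B,
    pr E.uu (negList b) x * pr E.uu (negList b) y = pr E.uu (negList b) z ∧
      ∀ a ∈ b.support, z (P.reflectionPerm a a) = x (P.reflectionPerm a a) +
        y (P.reflectionPerm a a) := by
  obtain ⟨x', hx, hx'⟩ := exists_pr_eq (hyp_neg E) (negList_nodup b) (mem_negList' E) x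
  obtain ⟨y', hy, hy'⟩ := exists_pr_eq (hyp_neg E) (negList_nodup b) (mem_negList' E) y
  obtain ⟨z', hz, hz'⟩ := E.neg_mul x' y'
  obtain ⟨z, h1⟩ := exists_pr_eq' (hyp_neg E) (negList_nodup b) (mem_negList' E) z'
  obtain ⟨z'', h2, h3⟩ := exists_pr_eq (hyp_neg E) (negList_nodup b) (mem_negList' E) z
  refine ⟨z, by rw [hx, hy, ← h1]; exact hz, ?_⟩
  intro a ha
  have h0 : b.height (P.reflectionPerm a a) = -1 := by
    rw [height_reflectionPerm_self, RootPairing.Base.height_one_of_mem_support ha]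
  have haL : P.reflectionPerm a a ∈ E.negL := (E.mem_negL _).mpr (by
    intro h
    have : 0 < b.height (P.reflectionPerm a a) := h
    omega)
  have hmin : ∀ c ∈ E.negL, wt b (P.reflectionPerm a a) ≤ wt b c := fun c _ =>
    wt_le b (Or.inr h0) c
  have h4 := (hyp_neg E).inj _ _ (h2.symm.trans h1.symm) _ haL
  rw [← h3 _ haL hmin, h4, hz' a ha, hx' _ haL hmin, hy' _ haL hmin]

/-- **From `CellGrp` to `PinCell`.** -/
def toPinCell (hP : P.toLinearMap = Module.Dual.eval ℤ M)
    (fp : Algebra.FinitePresentation R A) (smooth : Algebra.Smooth R A)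
    (domain : ∀ (K : Type u) [Field K] [Algebra R K], IsDomain (K ⊗[R] A)) : PinCell P b R A where
  pairing_eq := hP
  i := E.i
  i_nat := E.i_nat
  i_inj := E.i_inj
  uu := E.uu
  uu_add := E.uu_add
  uu_nat := E.uu_nat
  uu_surj := E.uu_surj
  rel := E.rel
  rank1 := E.rank1
  comm := E.comm
  conj := E.conj
  cell_inj := cell_inj_all E
  cellIdeal := Ideal.span {E.d}
  cellIdeal_fg := ⟨{E.d}, by simp⟩
  mem_cell_iff g := by
    rw [cell_iff, E.mem_cell_iff, Ideal.map_span, Set.image_singleton,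
      Ideal.span_singleton_eq_top]
    rfl
  pos_mul := pos_mul_all E
  neg_mul := neg_mul_all E
  fp := fp
  smooth := smooth
  domain := domain

/-- **The Chevalley group scheme as a `PinCell`.** -/
theorem nonempty_pinCell {S : ChevSys.{u} P b} (E : MatGrp S R A)
    (hP : P.toLinearMap = Module.Dual.eval ℤ M) [IsReduced R] [IsDomain A] [Module.Flat R A]
    [Algebra.FinitePresentation R A] (hs : Algebra.Smooth R (Localization.Away E.d)) :
    Nonempty (PinCell P b R A) := by
  have hsm : Algebra.Smooth R A := Fibres.smooth E hs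
  exact ⟨toPinCell E.toCellGrp hP inferInstance hsm
    (fun K _ _ => Fibres.isDomain_tensor E hP K)⟩

end Groth.Agent.RedSub.H549.ToPin
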