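import Groth.Agent.RedSub.H549.NilCell
import Groth.Agent.Redsub.H632.X3Defs
import Mathlib.Algebra.MvPolynomial.Nilpotent
import Groth.Agent.Sga3B.PinComb829

/-!
# The Borel subgroup of a matrix group is closed

`toIwa : CellGrp P b R A → Iwa P b R A`, `borClosed : BorClosed (toIwa E hP)` for `E : MatGrp S R A` over a
reduced ring `R`.
-/

set_option autoImplicit false
set_option linter.unusedSectionVars false
universe u

open Groth.Agent.Sga3B.Cell Groth.Agent.RedSub.H630.ChevDefs Groth.Agent.Redsub.H632.X3Defs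

namespace Groth.Agent.RedSub.H549.BorMat

open IwaCell Dominate

variable {idx M : Type} [Fintype idx] [AddCommGroup M] [Module.Free ℤ M] [Module.Finite ℤ M]
  {P : RootPairing idx ℤ M (Module.Dual ℤ M)} {b : P.Base}

/-- the data for the Iwasawa decomposition -/
def toIwa {R A : Type u} [CommRing R] [CommRing A] [Algebra R A] [PtGrp R A]
    (E : CellGrp P b R A) (hP : P.toLinearMap = Module.Dual.eval ℤ M) : Iwa P b R A where
  pairing_eq := hP
  i := E.i
  i_nat := E.i_nat
  uu := E.uu
  uu_add := E.uu_add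
  uu_nat := E.uu_nat
  rel := E.rel
  rank1 := E.rank1
  conj := E.conj
  posL := E.posL
  posL_nodup := E.posL_nodup
  mem_posL := E.mem_posL
  pos_mul := E.pos_mul
  pos_norm := E.pos_norm

section matrices

variable {J : Type} [Fintype J] [DecidableEq J] {B : Type u} [CommRing B]

/-- unipotent upper triangular matrices for a linear form on the weights -/
def UT (wt : J → M) (lam : M →+ ℤ) (X : Matrix J J B) : Prop :=
  ∀ j k, lam (wt j) ≤ lam (wt k) → X j k = (1 : Matrix J J B) j k

lemma UT_one (wt : J → M) (lam : M →+ ℤ) : UT wt lam (1 : Matrix J J B) := fun _ _ _ => rfl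

lemma UT_mul {wt : J → M} {lam : M →+ ℤ} {X Y : Matrix J J B} (hX : UT wt lam X)
    (hY : UT wt lam Y) : UT wt lam (X * Y) := by
  intro j k hjk
  rw [Matrix.mul_apply]
  have h1 : ∀ l, X j l * Y l k = (1 : Matrix J J B) j l * Y l k := by
    intro l
    by_cases hl : lam (wt j) ≤ lam (wt l)
    · rw [hX j l hl]
    · push Not at hl
      have h2 : l ≠ k := by
        rintro rfl
        exact absurd hjk (not_le.mpr hl)
      rw [hY l k (hl.le.trans hjk), Matrix.one_apply_ne h2, mul_zero, mul_zero]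
  rw [Finset.sum_congr rfl (fun l _ => h1 l), ← Matrix.mul_apply, one_mul]
  exact hY j k hjk

lemma UT_list_prod {wt : J → M} {lam : M →+ ℤ} (L : List (Matrix J J B))
    (hL : ∀ X ∈ L, UT wt lam X) : UT wt lam L.prod := by
  induction L with
  | nil => exact fun _ _ _ => rfl
  | cons X L ih =>
    rw [List.prod_cons]
    exact UT_mul (hL X (List.mem_cons_self)) (ih fun Y hY => hL Y (List.mem_cons_of_mem _ hY))

end matrices

lemma UT_uMat (S : ChevSys.{u} P b) {lam : M →+ ℤ} {a : idx} (ha : 0 < lam (P.root a))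
    {B : Type u} [CommRing B] (x : B) : UT S.wt lam (uMat (S.E a) S.N x) := by
  intro j k hjk
  rcases Nat.eq_zero_or_pos S.N with hN | hN
  · have h1 : (1 : Matrix S.J S.J ℤ) = 0 := by
      rw [← S.E_zero a]
      exact S.E_van a 0 (by omega)
    have h2 := congrFun (congrFun h1 j) j
    simp at h2
  · rw [uMat, Matrix.sum_apply, Finset.sum_eq_single 0]
    · rw [S.E_zero]
      simp only [pow_zero, one_smul, Matrix.map_apply]
      by_cases h : j = k
      · subst h; simp
      · simp [Matrix.one_apply_ne h]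
    · intro n _ hn
      have h0 : S.E a n j k = 0 := by
        by_contra h
        have h1 := S.E_wt a n j k h
        rw [h1, map_add, map_nsmul] at hjk
        have h2 : 0 < n • lam (P.root a) := nsmul_pos ha hn
        omega
      simp [h0]
    · intro h
      exact absurd (Finset.mem_range.mpr hN) h

section torus

variable {R : Type u} [CommRing R] {B C : Type u} [CommRing B] [Algebra R B] [CommRing C] [Algebra R C]
  (φ : B →ₐ[R] C)

/-- a torus point all whose character values come from `B` comes from `B` -/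
lemma exists_torus_of_mem (hφ : Function.Injective φ) {J : Type} {wt : J → M}
    (hwt : Submodule.span ℤ (Set.range wt) = ⊤) (t : TPt M C)
    (h1 : ∀ j, ∃ y, φ y = TPt.ch (wt j) t) (h2 : ∀ j, ∃ y, φ y = TPt.ch (wt j) t⁻¹) :
    ∃ t' : TPt M B, TPt.map φ t' = t := by
  have hinv : ∀ m : M, TPt.ch m t⁻¹ = TPt.ch (-m) t := by
    intro m
    have h3 : TPt.ch m t⁻¹ * TPt.ch m t = 1 := by
      rw [← TPt.ch_mul, show t⁻¹ * t = 1 from inv_mul_cancel t, TPt.ch_one]
    have h4 : TPt.ch (-m) t * TPt.ch m t = 1 := by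
      rw [← TPt.ch_add, neg_add_cancel, TPt.ch_zero]
    exact (TPt.isUnit_ch m t).mul_right_cancel (h3.trans h4.symm)
  let Q : AddSubgroup M :=
    { carrier := {m | (∃ y, φ y = TPt.ch m t) ∧ ∃ y, φ y = TPt.ch (-m) t}
      zero_mem' := ⟨⟨1, by simp⟩, ⟨1, by simp⟩⟩
      add_mem' := by
        rintro m n ⟨⟨y, hy⟩, ⟨z, hz⟩⟩ ⟨⟨y', hy'⟩, ⟨z', hz'⟩⟩
        exact ⟨⟨y * y', by rw [map_mul, hy, hy', TPt.ch_add]⟩,
          ⟨z * z', by rw [map_mul, hz, hz', neg_add, TPt.ch_add]⟩⟩
      neg_mem' := by
        rintro m ⟨h, h'⟩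
        exact ⟨h', by rw [neg_neg]; exact h⟩ }
  have hQ : ∀ m : M, m ∈ Q := by
    have : Submodule.span ℤ (Set.range wt) ≤ AddSubgroup.toIntSubmodule Q := by
      rw [Submodule.span_le]
      rintro _ ⟨j, rfl⟩
      exact ⟨h1 j, by rw [← hinv]; exact h2 j⟩
    intro m
    exact this (by rw [hwt]; trivial)
  choose y hy using fun m : M => (hQ m).1
  have hadd : ∀ m n : M, y (m + n) = y m * y n := fun m n => hφ (by
    rw [map_mul, hy, hy, hy, TPt.ch_add])
  have hzero : y 0 = 1 := hφ (by rw [map_one, hy, TPt.ch_zero])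
  let f : Multiplicative M →* B :=
    { toFun := fun m => y m.toAdd
      map_one' := hzero
      map_mul' := fun m n => hadd _ _ }
  refine ⟨f.toHomUnits, ?_⟩
  apply TPt.ext_ch
  intro m
  rw [TPt.ch_map]
  exact hy m

end torus

section main

variable {S : ChevSys.{u} P b} {R A : Type u} [CommRing R] [CommRing A] [Algebra R A] [PtGrp R A]
  (E : MatGrp S R A) {B C : Type u} [CommRing B] [Algebra R B] [CommRing C] [Algebra R C]

/-- product of the positive root elements -/
def pos (x : idx → B) : Pt R A B := (E.posL.map fun a => E.uu a B (x a)).prod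

/-- product of the negative root elements -/
def neg (x : idx → B) : Pt R A B := (E.negL.map fun a => E.uu a B (x a)).prod

lemma pos_nat (φ : B →ₐ[R] C) (x : idx → B) : Pt.map φ (pos E x) = pos E (fun a => φ (x a)) := by
  unfold pos
  rw [Pt.map_list_prod, List.map_map]
  congr 1
  apply List.map_congr_left
  intro a _
  simp [E.uu_nat]

lemma neg_nat (φ : B →ₐ[R] C) (x : idx → B) : Pt.map φ (neg E x) = neg E (fun a => φ (x a)) := by
  unfold neg
  rw [Pt.map_list_prod, List.map_map]
  congr 1
  apply List.map_congr_left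
  intro a _
  simp [E.uu_nat]

@[simp] lemma uu_zero (a : idx) : E.uu a B (0 : B) = 1 := by
  have h := E.uu_add a (0 : B) 0
  rw [add_zero] at h
  exact (mul_eq_left.mp h.symm)

lemma neg_eq_one {x : idx → B} (hx : ∀ a, ¬ b.IsPos a → x a = 0) : neg E x = 1 := by
  unfold neg
  apply List.prod_eq_one
  intro y hy
  obtain ⟨a, ha, rfl⟩ := List.mem_map.mp hy
  rw [hx a ((E.mem_negL a).mp ha), uu_zero]

lemma pos_congr {x y : idx → B} (h : ∀ a, b.IsPos a → x a = y a) : pos E x = pos E y := by
  unfold pos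
  congr 1
  apply List.map_congr_left
  intro a ha
  rw [h a ((E.mem_posL a).mp ha)]

lemma neg_congr {x y : idx → B} (h : ∀ a, ¬ b.IsPos a → x a = y a) : neg E x = neg E y := by
  unfold neg
  congr 1
  apply List.map_congr_left
  intro a ha
  rw [h a ((E.mem_negL a).mp ha)]

lemma isUnit_cell (x : idx → B) (t : TPt M B) : IsUnit ((neg E x * E.i B t * pos E x).hom E.d) :=
  (E.mem_cell_iff _).mp ⟨x, t, rfl⟩

lemma isUnit_i (t : TPt M B) : IsUnit ((E.i B t).hom E.d) := by
  have h := isUnit_cell E (0 : idx → B) t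
  have h1 : neg E (0 : idx → B) = 1 := neg_eq_one E (fun _ _ => rfl)
  have h2 : pos E (0 : idx → B) = 1 := by
    unfold pos
    apply List.prod_eq_one
    intro y hy
    obtain ⟨a, ha, rfl⟩ := List.mem_map.mp hy
    simp
  rwa [h1, h2, one_mul, mul_one] at h

open Classical in
lemma isUnit_pos (x : idx → B) : IsUnit ((pos E x).hom E.d) := by
  have h := isUnit_cell E (fun a => if b.IsPos a then x a else 0) 1
  have h1 : neg E (fun a => if b.IsPos a then x a else 0) = 1 :=
    neg_eq_one E (fun a ha => by simp [ha])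
  have h2 : pos E (fun a => if b.IsPos a then x a else 0) = pos E x :=
    pos_congr E (fun a ha => by simp [ha])
  rwa [h1, h2, map_one, one_mul, one_mul] at h

/-- the equation of the complement of the big cell is constant on `U⁺` -/
lemma hom_d_pos [IsReduced R] : ∃ r : R, IsUnit r ∧
    ∀ {B : Type u} [CommRing B] [Algebra R B] (x : idx → B), (pos E x).hom E.d = algebraMap R B r := by
  have h1 := isUnit_pos E (fun a => (MvPolynomial.X a : MvPolynomial idx R))
  obtain ⟨r, hr, h2⟩ := MvPolynomial.isUnit_iff_eq_C_of_isReduced.mp h1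
  refine ⟨r, hr, ?_⟩
  intro B _ _ x
  have h3 := pos_nat E (MvPolynomial.aeval x : MvPolynomial idx R →ₐ[R] B)
    (fun a => (MvPolynomial.X a : MvPolynomial idx R))
  simp only [MvPolynomial.aeval_X] at h3
  rw [← h3, Pt.map_hom_apply, h2, MvPolynomial.aeval_C]

/-- the cell product determines the coordinates -/
lemma cell_unique {x x' : idx → B} {t t' : TPt M B} {y y' : idx → B}
    (h : neg E y * E.i B t * pos E x = neg E y' * E.i B t' * pos E x') :
    (∀ a, ¬ b.IsPos a → y a = y' a) ∧ t = t' ∧ (∀ a, b.IsPos a → x a = x' a) := by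
  classical
  have key : ∀ (x y : idx → B) (t : TPt M B), neg E y * E.i B t * pos E x =
      neg E (fun a => if b.IsPos a then x a else y a) * E.i B t *
        pos E (fun a => if b.IsPos a then x a else y a) := by
    intro x y t
    congr 1
    · congr 1
      apply neg_congr
      intro a ha
      simp [ha]
    · apply pos_congr
      intro a ha
      simp [ha]
  rw [key x y t, key x' y' t'] at h
  obtain ⟨h1, h2⟩ := E.cell_inj _ _ _ _ h
  refine ⟨fun a ha => ?_, h2, fun a ha => ?_⟩
  · have := congrFun h1 a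
    simpa [ha] using this
  · have := congrFun h1 a
    simpa [ha] using this

lemma UT_pos {lam : M →+ ℤ} (hlam : ∀ a, b.IsPos a → 0 < lam (P.root a)) (x : idx → B) :
    UT S.wt lam (E.mat B (pos E x)) := by
  unfold pos
  rw [map_list_prod, List.map_map]
  apply UT_list_prod
  intro X hX
  obtain ⟨a, ha, rfl⟩ := List.mem_map.mp hX
  simp only [Function.comp_apply]
  rw [E.mat_uu]
  exact UT_uMat S (hlam a ((E.mem_posL a).mp ha)) _

/-- **The Borel subgroup is closed.** -/
theorem borClosed [IsReduced R] (hP : P.toLinearMap = Module.Dual.eval ℤ M) :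
    BorClosed (toIwa E.toCellGrp hP) := by
  classical
  intro B C _ _ _ _ φ hφ h hh
  obtain ⟨t, x, hh⟩ := hh
  change Pt.map φ h = E.i C t * pos E x at hh
  obtain ⟨lam, n, hn, hlam'⟩ := Sga3B.PinComb.exists_height_functional b
  have hlam : ∀ a, b.IsPos a → 0 < lam (P.root a) := fun a ha => by
    rw [hlam']
    exact mul_pos hn ha
  have hdiag : ∀ (U : Matrix S.J S.J C), UT S.wt lam U → ∀ j, U j j = 1 := fun U hU j => by
    rw [hU j j le_rfl, Matrix.one_apply_eq]
  obtain ⟨x', hx'⟩ := E.pos_inv x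
  change (pos E x)⁻¹ = pos E x' at hx'
  -- the torus part
  obtain ⟨t', rfl⟩ : ∃ t' : TPt M B, TPt.map φ t' = t := by
    apply exists_torus_of_mem φ hφ S.span_wt t
    · intro j
      refine ⟨E.mat B h j j, ?_⟩
      have h1 := congrFun (congrFun (E.mat_nat φ h) j) j
      rw [Matrix.map_apply] at h1
      rw [← h1, hh, map_mul, E.mat_i, tMat, Matrix.diagonal_mul, hdiag _ (UT_pos E hlam x), mul_one]
    · intro j
      refine ⟨E.mat B h⁻¹ j j, ?_⟩
      have h1 := congrFun (congrFun (E.mat_nat φ h⁻¹) j) j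
      rw [Matrix.map_apply] at h1
      rw [← h1, Pt.map_inv, hh, mul_inv_rev, hx', ← map_inv, map_mul, E.mat_i, tMat,
        Matrix.mul_diagonal, hdiag _ (UT_pos E hlam x'), one_mul]
  -- the unipotent part
  obtain ⟨r, hr, hd⟩ := hom_d_pos E
  have h1 : Pt.map φ ((E.i B t')⁻¹ * h) = pos E x := by
    rw [Pt.map_mul, Pt.map_inv, E.i_nat, hh]
    group
  have h2 : IsUnit (((E.i B t')⁻¹ * h).hom E.d) := by
    have h3 : φ (((E.i B t')⁻¹ * h).hom E.d) = φ (algebraMap R B r) := by
      rw [← Pt.map_hom_apply, h1, hd, AlgHom.commutes]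
    rw [hφ h3]
    exact hr.map _
  obtain ⟨y, s, hy⟩ := (E.mem_cell_iff _).mpr h2
  change _ = neg E y * E.i B s * pos E y at hy
  have h3 := h1
  rw [hy, Pt.map_mul, Pt.map_mul, neg_nat, pos_nat, E.i_nat] at h3
  have h4 : pos E x = neg E (0 : idx → C) * E.i C 1 * pos E x := by
    rw [show neg E (0 : idx → C) = 1 from neg_eq_one E (fun _ _ => rfl), map_one, one_mul, one_mul]
  rw [h4] at h3
  obtain ⟨h5, h6, -⟩ := cell_unique E h3
  have h7 : s = 1 := by
    apply TPt.ext_ch
    intro m
    apply hφ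
    rw [← TPt.ch_map, h6, TPt.ch_one, TPt.ch_one, map_one]
  have h8 : neg E y = 1 := neg_eq_one E (fun a ha => hφ (by rw [h5 a ha, map_zero]; rfl))
  refine ⟨t', y, ?_⟩
  change h = E.i B t' * pos E y
  rw [h7, h8, map_one, one_mul, one_mul] at hy
  rw [← hy]
  group

end main

end Groth.Agent.RedSub.H549.BorMat
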