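import Groth.Agent.Sga3B.CellBase
import Groth.Agent.Smoothlim.SmoothLocusBC
import Mathlib.RingTheory.Smooth.Locus
import Mathlib.AlgebraicGeometry.Pullbacks

/-!
# Smoothness of a flat affine group functor from smoothness near the unit section

`A` flat and of finite presentation over `R`, with a natural group structure on its points; if `D(f)`
contains the unit section and `A_f` is smooth over `R`, then `A` is smooth over `R`.
-/

set_option autoImplicit false
universe u

open Groth.Agent.Sga3B.Cell TensorProduct AlgebraicGeometry CategoryTheory Limits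

namespace Groth.Agent.RedSub.H549.SmoothCell

variable (R A : Type u) [CommRing R] [CommRing A] [Algebra R A] [PtGrp R A]

/-- first projection -/
noncomputable def p₁ : Pt R A (A ⊗[R] A) := Pt.mk Algebra.TensorProduct.includeLeft
/-- second projection -/
noncomputable def p₂ : Pt R A (A ⊗[R] A) := Pt.mk Algebra.TensorProduct.includeRight

variable {R A} in
/-- the homomorphism out of `A ⊗ A` given by two points -/
noncomputable def two {B : Type u} [CommRing B] [Algebra R B] (g h : Pt R A B) :
    A ⊗[R] A →ₐ[R] B :=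
  Algebra.TensorProduct.lift g.hom h.hom (fun _ _ => Commute.all _ _)

section
variable {R A} {B C : Type u} [CommRing B] [Algebra R B] [CommRing C] [Algebra R C]

omit [PtGrp R A] in
@[simp] lemma map_two_p₁ (g h : Pt R A B) : Pt.map (two g h) (p₁ R A) = g := by
  apply Pt.ext; intro a; simp [two, p₁]

omit [PtGrp R A] in
@[simp] lemma map_two_p₂ (g h : Pt R A B) : Pt.map (two g h) (p₂ R A) = h := by
  apply Pt.ext; intro a; simp [two, p₂]

omit [PtGrp R A] in
lemma algHom_ext' {φ ψ : A ⊗[R] A →ₐ[R] B} (h1 : Pt.map φ (p₁ R A) = Pt.map ψ (p₁ R A))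
    (h2 : Pt.map φ (p₂ R A) = Pt.map ψ (p₂ R A)) : φ = ψ := by
  apply Algebra.TensorProduct.ext
  · exact congrArg Pt.hom h1
  · exact congrArg Pt.hom h2

omit [PtGrp R A] in
lemma comp_two (φ : B →ₐ[R] C) (g h : Pt R A B) :
    φ.comp (two g h) = two (Pt.map φ g) (Pt.map φ h) := by
  apply algHom_ext'
  · rw [← Pt.map_map, map_two_p₁, map_two_p₁]
  · rw [← Pt.map_map, map_two_p₂, map_two_p₂]

end

/-- `(g, h) ↦ (g, g h)` -/
noncomputable def σ : A ⊗[R] A →ₐ[R] A ⊗[R] A := two (p₁ R A) (p₁ R A * p₂ R A)
/-- `(g, h) ↦ (g, g⁻¹ h)` -/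
noncomputable def τ : A ⊗[R] A →ₐ[R] A ⊗[R] A := two (p₁ R A) ((p₁ R A)⁻¹ * p₂ R A)

lemma σ_comp_τ : (σ R A).comp (τ R A) = AlgHom.id R _ := by
  rw [τ, comp_two, Pt.map_mul, Pt.map_inv, σ, map_two_p₁, map_two_p₂]
  apply algHom_ext'
  · simp
  · simp

lemma τ_comp_σ : (τ R A).comp (σ R A) = AlgHom.id R _ := by
  rw [σ, comp_two, Pt.map_mul, τ, map_two_p₁, map_two_p₂]
  apply algHom_ext'
  · simp
  · simp

/-- the isomorphism of schemes `(g, h) ↦ (g, g h)` -/
noncomputable def transl :
    Spec (CommRingCat.of (A ⊗[R] A)) ≅ Spec (CommRingCat.of (A ⊗[R] A)) where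
  hom := Spec.map (CommRingCat.ofHom (σ R A).toRingHom)
  inv := Spec.map (CommRingCat.ofHom (τ R A).toRingHom)
  hom_inv_id := by
    rw [← Spec.map_comp, ← CommRingCat.ofHom_comp]
    have : (σ R A).toRingHom.comp (τ R A).toRingHom = RingHom.id _ :=
      congrArg (fun h : A ⊗[R] A →ₐ[R] A ⊗[R] A => (h : A ⊗[R] A →+* A ⊗[R] A)) (σ_comp_τ R A)
    rw [this]
    simp
  inv_hom_id := by
    rw [← Spec.map_comp, ← CommRingCat.ofHom_comp]
    have : (τ R A).toRingHom.comp (σ R A).toRingHom = RingHom.id _ :=
      congrArg (fun h : A ⊗[R] A →ₐ[R] A ⊗[R] A => (h : A ⊗[R] A →+* A ⊗[R] A)) (τ_comp_σ R A)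
    rw [this]
    simp

/-- **Smoothness from smoothness near the unit section.** -/
theorem smooth_of_cell [Module.Flat R A] [Algebra.FinitePresentation R A] (f : A)
    (hf : IsUnit ((1 : Pt R A A).hom f)) (hs : Algebra.Smooth R (Localization.Away f)) :
    Algebra.Smooth R A := by
  let X := Spec (CommRingCat.of A)
  let S := Spec (CommRingCat.of R)
  let XX := Spec (CommRingCat.of (A ⊗[R] A))
  let s : X ⟶ S := Spec.map (CommRingCat.ofHom (algebraMap R A))
  let π₁ : XX ⟶ X := Spec.map (CommRingCat.ofHom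
    (Algebra.TensorProduct.includeLeftRingHom (R := R) (A := A) (B := A)))
  let π₂ : XX ⟶ X := Spec.map (CommRingCat.ofHom
    (Algebra.TensorProduct.includeRight (R := R) (A := A) (B := A)).toRingHom)
  have hp : IsPullback π₂ π₁ s s := (isPullback_SpecMap_of_isPushout _ _ _ _
    (CommRingCat.isPushout_tensorProduct R A A)).flip
  have : LocallyOfFinitePresentation s := by
    rw [HasRingHomProperty.Spec_iff (P := @LocallyOfFinitePresentation)]
    exact (RingHom.finitePresentation_algebraMap).mpr inferInstance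
  have hsflat : Flat s := by
    rw [HasRingHomProperty.Spec_iff (P := @Flat)]
    exact RingHom.flat_algebraMap_iff.mpr inferInstance
  have : LocallyOfFinitePresentation π₁ := MorphismProperty.of_isPullback hp inferInstance
  -- the smooth locus contains `D(f)`
  have hD : ∀ x : X, f ∉ x.asIdeal → x ∈ s.smoothLocus := by
    intro x hx
    let j : Spec (CommRingCat.of (Localization.Away f)) ⟶ X :=
      Spec.map (CommRingCat.ofHom (algebraMap A (Localization.Away f)))
    have hj : IsOpenImmersion j := inferInstance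
    have hjs : j ≫ s = Spec.map (CommRingCat.ofHom (algebraMap R (Localization.Away f))) := by
      change Spec.map _ ≫ Spec.map _ = _
      rw [← Spec.map_comp, ← CommRingCat.ofHom_comp, ← IsScalarTower.algebraMap_eq]
    have hsm : Smooth (j ≫ s) := by
      rw [hjs, HasRingHomProperty.Spec_iff (P := @Smooth)]
      exact RingHom.smooth_algebraMap.mpr hs
    obtain ⟨y, hy⟩ : x ∈ Set.range j := by
      have := PrimeSpectrum.localization_away_comap_range (Localization.Away f) f
      change x ∈ Set.range (PrimeSpectrum.comap (algebraMap A (Localization.Away f)))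
      rw [this]
      exact hx
    have h1 : y ∈ j ⁻¹ᵁ s.smoothLocus := by
      rw [Scheme.Hom.preimage_smoothLocus_eq, Scheme.Hom.smoothLocus_eq_top]
      trivial
    rw [← hy]
    exact h1
  have key : ∀ x : X, x ∈ s.smoothLocus := by
    intro x
    let a : X ⟶ XX := Spec.map (CommRingCat.ofHom (two (Pt.mk (AlgHom.id R A)) 1).toRingHom)
    let d : X ⟶ XX := Spec.map (CommRingCat.ofHom
      (two (Pt.mk (AlgHom.id R A)) (Pt.mk (AlgHom.id R A))).toRingHom)
    have had : a ≫ (transl R A).hom = d := by
      change Spec.map _ ≫ Spec.map _ = Spec.map _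
      rw [← Spec.map_comp, ← CommRingCat.ofHom_comp]
      congr 2
      have h1 : (two (Pt.mk (AlgHom.id R A)) (1 : Pt R A A)).comp (σ R A) =
          two (Pt.mk (AlgHom.id R A)) (Pt.mk (AlgHom.id R A)) := by
        rw [σ, comp_two, Pt.map_mul, map_two_p₁, map_two_p₂, mul_one]
      exact congrArg (fun h : A ⊗[R] A →ₐ[R] A => (h : A ⊗[R] A →+* A)) h1
    have h1 : a x ∈ π₁.smoothLocus := by
      rw [Smoothlim.SmoothLocusBC.mem_smoothLocus_iff_of_isPullback hp (a x) (Or.inr inferInstance)]
      apply hD
      intro hmem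
      have h2 : (two (Pt.mk (AlgHom.id R A)) (1 : Pt R A A))
          (Algebra.TensorProduct.includeRight f) ∈ x.asIdeal := hmem
      have h3 : (two (Pt.mk (AlgHom.id R A)) (1 : Pt R A A))
          (Algebra.TensorProduct.includeRight f) = (1 : Pt R A A).hom f := by
        simp [two]
      rw [h3] at h2
      exact x.isPrime.ne_top (Ideal.eq_top_of_isUnit_mem _ h2 hf)
    have h2 : d x ∈ π₁.smoothLocus := by
      have h3 : π₁ = (transl R A).inv ≫ π₁ := by
        change Spec.map _ = Spec.map _ ≫ Spec.map _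
        rw [← Spec.map_comp, ← CommRingCat.ofHom_comp]
        congr 2
        have h1 : Pt.map (τ R A) (p₁ R A) = p₁ R A := by rw [τ, map_two_p₁]
        exact congrArg (fun h : A →ₐ[R] A ⊗[R] A => (h : A →+* A ⊗[R] A))
          (congrArg Pt.hom h1).symm
      have h4 : (transl R A).inv ⁻¹ᵁ π₁.smoothLocus =
          ((transl R A).inv ≫ π₁).smoothLocus :=
        Scheme.Hom.preimage_smoothLocus_eq (transl R A).inv π₁
      have h5 : d x ∈ (transl R A).inv ⁻¹ᵁ π₁.smoothLocus := by
        rw [Scheme.Hom.mem_preimage, ← Scheme.Hom.comp_apply, ← had,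
          Category.assoc, Iso.hom_inv_id, Category.comp_id]
        exact h1
      rw [h4] at h5
      convert h5 using 1
      congr 1
    rw [Smoothlim.SmoothLocusBC.mem_smoothLocus_iff_of_isPullback hp (d x) (Or.inr inferInstance)]
      at h2
    have : π₂ (d x) = x := by
      rw [← Scheme.Hom.comp_apply]
      have h3 : d ≫ π₂ = 𝟙 X := by
        change Spec.map _ ≫ Spec.map _ = _
        rw [← Spec.map_comp, ← CommRingCat.ofHom_comp]
        have h1 : Pt.map (two (Pt.mk (AlgHom.id R A)) (Pt.mk (AlgHom.id R A))) (p₂ R A) =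
            Pt.mk (AlgHom.id R A) := by rw [map_two_p₂]
        have h2 : ((two (Pt.mk (AlgHom.id R A)) (Pt.mk (AlgHom.id R A))).toRingHom.comp
            (Algebra.TensorProduct.includeRight (R := R) (A := A) (B := A)).toRingHom) =
            RingHom.id A :=
          congrArg (fun h : A →ₐ[R] A => (h : A →+* A)) (congrArg Pt.hom h1)
        rw [h2]
        simp
        rfl
      rw [h3]
      rfl
    rwa [this] at h2
  have htop : s.smoothLocus = ⊤ := by
    ext x
    simp [key x]
  rw [Scheme.Hom.smoothLocus_eq_top_iff] at htop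
  rw [HasRingHomProperty.Spec_iff (P := @Smooth)] at htop
  exact RingHom.smooth_algebraMap.mp htop

end Groth.Agent.RedSub.H549.SmoothCell
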