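import Groth.Agent.RedSub.H549.BorMat
import Groth.Agent.RedSub.H549.SmoothCell
import Groth.Agent.Flat2B.SmoothGeom
import Mathlib.RingTheory.Flat.Basic
import Mathlib.Algebra.Group.UniqueProds.VectorSpace
import Mathlib.Algebra.MonoidAlgebra.NoZeroDivisors
import Mathlib.FieldTheory.IsAlgClosed.AlgebraicClosure

/-!
# The schematic closure of the Chevalley group over `ℤ` is smooth with connected fibres

`E : MatGrp S R A`, `A` a domain, flat and finitely presented over the reduced ring `R`, with smooth big cell:
* `smooth : Algebra.Smooth R A`;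
* `isDomain_tensor : ∀ K field over R, IsDomain (K ⊗[R] A)`.
-/

set_option autoImplicit false
set_option linter.unusedSectionVars false
universe u

open Groth.Agent.Sga3B.Cell Groth.Agent.RedSub.H630.ChevDefs Groth.Agent.Redsub.H632.X3Defs
open TensorProduct

namespace Groth.Agent.RedSub.H549.Fibres

open IwaCell Dominate PathVan NilCell BorMat

variable {idx M : Type} [Fintype idx] [AddCommGroup M] [Module.Free ℤ M] [Module.Finite ℤ M]
  {P : RootPairing idx ℤ M (Module.Dual ℤ M)} {b : P.Base}
  {S : ChevSys.{u} P b} {R A : Type u} [CommRing R] [CommRing A] [Algebra R A] [PtGrp R A]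
  (E : MatGrp S R A)

/-- **Smoothness of the closure.** -/
theorem smooth [Module.Flat R A] [Algebra.FinitePresentation R A]
    (hs : Algebra.Smooth R (Localization.Away E.d)) : Algebra.Smooth R A := by
  apply SmoothCell.smooth_of_cell R A E.d _ hs
  have := isUnit_i E (1 : TPt M A)
  rwa [map_one] at this

lemma mem_All_of_isUnit (hP : P.toLinearMap = Module.Dual.eval ℤ M) {F : Type u} [Field F]
    [Algebra R F] (g : Pt R A F) (hg : IsUnit (g.hom E.d)) : g ∈ All (toIwa E.toCellGrp hP) F := by
  obtain ⟨x, t, rfl⟩ := (E.mem_cell_iff g).mpr hg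
  have h1 : ∀ (L : List idx) (x : idx → F), (L.map fun a => E.uu a F (x a)).prod ∈
      All (toIwa E.toCellGrp hP) F := by
    intro L x
    apply Subgroup.list_prod_mem
    intro y hy
    obtain ⟨a, -, rfl⟩ := List.mem_map.mp hy
    exact Subgroup.subset_closure (Or.inl (Set.mem_iUnion.mpr ⟨a, x a, rfl⟩))
  exact Subgroup.mul_mem _ (Subgroup.mul_mem _ (h1 _ _)
    (Subgroup.subset_closure (Or.inr ⟨t, rfl⟩))) (h1 _ _)

section univ

variable (K : Type u) [Field K]

/-- the coordinate ring of the cell over `K` -/
abbrev W (idx M : Type) [AddCommGroup M] : Type u :=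
  MvPolynomial idx (MonoidAlgebra K (Multiplicative M))

/-- the universal torus point -/
noncomputable def tU (idx M : Type) [AddCommGroup M] : TPt M (W K idx M) :=
  MonoidHom.toHomUnits
    (((MvPolynomial.C (σ := idx) (R := MonoidAlgebra K (Multiplicative M))) : _ →* W K idx M).comp
      (MonoidAlgebra.of K (Multiplicative M)))

omit [Fintype idx] [Module.Free ℤ M] [Module.Finite ℤ M] in
lemma ch_tU (m : M) : TPt.ch m (tU K idx M) =
    MvPolynomial.C (MonoidAlgebra.single (Multiplicative.ofAdd m) (1 : K)) := rfl

variable {K} {L : Type u} [CommRing L] [Algebra K L]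

/-- evaluation at a point of the cell -/
noncomputable def evW (x : idx → L) (t : TPt M L) : W K idx M →ₐ[K] L :=
  MvPolynomial.aevalTower
    (MonoidAlgebra.lift K L (Multiplicative M) ((Units.coeHom L).comp t)) x

omit [Fintype idx] [Module.Free ℤ M] [Module.Finite ℤ M] in
@[simp] lemma evW_X (x : idx → L) (t : TPt M L) (a : idx) :
    evW (K := K) x t (MvPolynomial.X a) = x a := by simp [evW]

omit [Fintype idx] [Module.Free ℤ M] [Module.Finite ℤ M] in
lemma map_evW_tU [Algebra R K] [Algebra R L] [IsScalarTower R K L] (x : idx → L) (t : TPt M L) :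
    TPt.map ((evW (K := K) x t).restrictScalars R) (tU K idx M) = t := by
  apply TPt.ext_ch
  intro m
  rw [TPt.ch_map, ch_tU]
  change evW (K := K) x t _ = _
  rw [evW, MvPolynomial.aevalTower_C, MonoidAlgebra.lift_single]
  simp [TPt.ch]

end univ

instance isDomain_groupAlg (K : Type u) [Field K] :
    IsDomain (MonoidAlgebra K (Multiplicative M)) := by
  have : TwoUniqueSums M := TwoUniqueSums.of_injective_addHom
    (Module.Free.chooseBasis ℤ M).repr.toLinearMap.toAddMonoidHom.toAddHom
    (Module.Free.chooseBasis ℤ M).repr.injective inferInstance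
  infer_instance

/-- the universal point of the cell -/
noncomputable def cU (K : Type u) [Field K] [Algebra R K] : Pt R A (W K idx M) :=
  neg E (fun a => MvPolynomial.X a) * E.i _ (tU K idx M) * pos E (fun a => MvPolynomial.X a)

lemma map_cU {K : Type u} [Field K] [Algebra R K] {L : Type u} [CommRing L] [Algebra K L]
    [Algebra R L] [IsScalarTower R K L] (x : idx → L) (t : TPt M L) :
    Pt.map ((evW (K := K) x t).restrictScalars R) (cU E K) = neg E x * E.i L t * pos E x := by
  rw [cU, Pt.map_mul, Pt.map_mul, neg_nat, pos_nat, E.i_nat, map_evW_tU]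
  simp only [AlgHom.coe_restrictScalars', evW_X]

/-- functions on the closure over `K` algebraically closed which vanish on the cell are zero -/
theorem ev_cU_injective (hP : P.toLinearMap = Module.Dual.eval ℤ M) [IsReduced R] [IsDomain A]
    [Algebra.FiniteType R A] [Algebra.Smooth R A] (K : Type u) [Field K] [IsAlgClosed K]
    [Algebra R K] : Function.Injective (ev K (cU E K)) := by
  rw [injective_iff_map_eq_zero]
  intro z hz
  have : P.IsReduced := Sga3B.PinComb.isReduced b
  have hred : IsReduced (K ⊗[R] A) := Flat2B.SmoothGeom.isReduced_of_smooth_field K _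
  have hnil : IsNilpotent z := by
    apply isNilpotent_of_cell (borClosed E hP) (f := E.d)
    · intro B _ _ t
      exact isUnit_i E t
    · intro F _ _ g hg
      exact mem_All_of_isUnit E hP g hg
    · intro B _ _ _ _ g hg
      obtain ⟨x, t, hx⟩ := (E.mem_cell_iff g).mpr hg
      change g = neg E x * E.i B t * pos E x at hx
      rw [hx, ← map_cU E (K := K) x t, ← map_ev, hz, map_zero]
  exact hnil.eq_zero

include E in
theorem isDomain_tensor_algClosed (hP : P.toLinearMap = Module.Dual.eval ℤ M) [IsReduced R]
    [IsDomain A] [Algebra.FiniteType R A] [Algebra.Smooth R A] (K : Type u) [Field K]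
    [IsAlgClosed K] [Algebra R K] : IsDomain (K ⊗[R] A) := by
  have : IsDomain (W K idx M) := inferInstance
  exact (ev_cU_injective E hP K).isDomain (ev K (cU E K)).toRingHom

include E in
/-- **The fibres of the closure are geometrically integral.** -/
theorem isDomain_tensor (hP : P.toLinearMap = Module.Dual.eval ℤ M) [IsReduced R]
    [IsDomain A] [Algebra.FiniteType R A] [Algebra.Smooth R A] (K : Type u) [Field K]
    [Algebra R K] : IsDomain (K ⊗[R] A) := by
  let L := AlgebraicClosure K
  have : IsDomain (L ⊗[R] A) := isDomain_tensor_algClosed E hP L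
  let φ : K ⊗[R] A →ₐ[R] L ⊗[R] A :=
    Algebra.TensorProduct.map (IsScalarTower.toAlgHom R K L) (AlgHom.id R A)
  have hφ : Function.Injective φ := by
    have h1 : Function.Injective (IsScalarTower.toAlgHom R K L).toLinearMap :=
      (algebraMap K L).injective
    exact Module.Flat.rTensor_preserves_injective_linearMap (M := A) _ h1
  exact hφ.isDomain φ.toRingHom

end Groth.Agent.RedSub.H549.Fibres
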