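import Groth.Agent.Redsub.H632.X3Defs
import Groth.Agent.RedSub.H630.UMat
import Groth.Agent.RedSub.H549.Fibres

/-!
# The closure of the universal cell matrix: definitions

`S : ChevSys P b`, `R` a commutative ring.
* `D R idx M = R[M][x_a : a : idx]`: the coordinate ring of `U⁻ × T × U⁺`.
* `gU S R`, `gI S R`: the universal cell matrix and its inverse.
* `A S R`: the subalgebra of `D` generated by the entries of `gU` and `gI`.
* `Zs S R B`: the matrices of the `B`-points of `A S R`.
-/

set_option autoImplicit false
set_option linter.unusedSectionVars false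
universe u

open Groth.Agent.Sga3B.Cell Groth.Agent.RedSub.H630.ChevDefs
open TensorProduct

namespace Groth.Agent.RedSub.H549.Clos

variable {idx M : Type} [AddCommGroup M]
  {P : RootPairing idx ℤ M (Module.Dual ℤ M)} {b : P.Base} (S : ChevSys.{u} P b)

/-- cell matrices -/
noncomputable def cm {B : Type u} [CommRing B] (x : idx → B) (t : TPt M B) : Matrix S.J S.J B :=
  (S.negL.map fun a => uMat (S.E a) S.N (x a)).prod * tMat S.wt t *
    (S.posL.map fun a => uMat (S.E a) S.N (x a)).prod

/-- inverses of cell matrices -/
noncomputable def cmI {B : Type u} [CommRing B] (x : idx → B) (t : TPt M B) : Matrix S.J S.J B :=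
  (S.posL.reverse.map fun a => uMat (S.E a) S.N (-x a)).prod * tMat S.wt t⁻¹ *
    (S.negL.reverse.map fun a => uMat (S.E a) S.N (-x a)).prod

/-- the coordinate ring of the cell -/
abbrev D (R : Type u) [CommRing R] (idx M : Type) [AddCommGroup M] : Type u :=
  MvPolynomial idx (MonoidAlgebra R (Multiplicative M))

/-- the universal torus point -/
noncomputable def tU (R : Type u) [CommRing R] (idx M : Type) [AddCommGroup M] : TPt M (D R idx M) :=
  MonoidHom.toHomUnits
    (((MvPolynomial.C (σ := idx) (R := MonoidAlgebra R (Multiplicative M))) : _ →* D R idx M).comp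
      (MonoidAlgebra.of R (Multiplicative M)))

/-- the universal cell matrix -/
noncomputable def gU (R : Type u) [CommRing R] : Matrix S.J S.J (D R idx M) :=
  cm S (fun a => MvPolynomial.X a) (tU R idx M)

/-- its inverse -/
noncomputable def gI (R : Type u) [CommRing R] : Matrix S.J S.J (D R idx M) :=
  cmI S (fun a => MvPolynomial.X a) (tU R idx M)

/-- the coordinate ring of the closure -/
noncomputable def A (R : Type u) [CommRing R] : Subalgebra R (D R idx M) :=
  Algebra.adjoin R (Set.range (fun p : S.J × S.J => gU S R p.1 p.2) ∪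
    Set.range (fun p : S.J × S.J => gI S R p.1 p.2))

/-- the universal cell matrix with entries in `A` -/
noncomputable def gA (R : Type u) [CommRing R] : Matrix S.J S.J (A S R) :=
  fun i j => ⟨gU S R i j, Algebra.subset_adjoin (Or.inl ⟨(i, j), rfl⟩)⟩

/-- its inverse with entries in `A` -/
noncomputable def gAI (R : Type u) [CommRing R] : Matrix S.J S.J (A S R) :=
  fun i j => ⟨gI S R i j, Algebra.subset_adjoin (Or.inr ⟨(i, j), rfl⟩)⟩

/-- the matrices of the `B`-points of `A` -/
def Zs (R : Type u) [CommRing R] (B : Type u) [CommRing B] [Algebra R B] :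
    Set (Matrix S.J S.J B) :=
  {m | ∃ φ : A S R →ₐ[R] B, (gA S R).map φ = m}

end Groth.Agent.RedSub.H549.Clos
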