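import Mathlib.RingTheory.TensorProduct.Maps
import Mathlib.RingTheory.TensorProduct.Basic
import Mathlib.RingTheory.Localization.FractionRing
import Mathlib.RingTheory.Ideal.Quotient.Operations
import Mathlib.RingTheory.Flat.FaithfullyFlat.Basic
import Mathlib.LinearAlgebra.Basis.VectorSpace

/-!
# Two points of a ring with values in fields and with the same kernel have a common extension
-/

set_option autoImplicit false
universe u

open TensorProduct

namespace Groth.Agent.RedSub.H549.Common

/-- Two extensions of a field embed into a common extension. -/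
theorem exists_common_field {κ K k : Type u} [Field κ] [Field K] [Field k] [Algebra κ K]
    [Algebra κ k] : ∃ (L : Type u) (_ : Field L) (i : K →+* L) (j : k →+* L),
      i.comp (algebraMap κ K) = j.comp (algebraMap κ k) := by
  have : Nontrivial (K ⊗[κ] k) :=
    (Module.FaithfullyFlat.nontrivial_tensorProduct_iff_left (R := κ) (M := K) (N := k)).mpr
      inferInstance
  obtain ⟨m, hm⟩ := Ideal.exists_maximal (K ⊗[κ] k)
  refine ⟨(K ⊗[κ] k) ⧸ m, Ideal.Quotient.field m,
    (Ideal.Quotient.mk m).comp (Algebra.TensorProduct.includeLeftRingHom (R := κ) (A := K) (B := k)),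
    (Ideal.Quotient.mk m).comp
      (Algebra.TensorProduct.includeRight (R := κ) (A := K) (B := k)).toRingHom, ?_⟩
  ext a
  simp only [RingHom.comp_apply]
  congr 1
  exact Algebra.TensorProduct.tmul_one_eq_one_tmul a

theorem exists_common {A K k : Type u} [CommRing A] [Field K] [Field k] (g : A →+* K)
    (h : A →+* k) (hk : RingHom.ker g = RingHom.ker h) :
    ∃ (L : Type u) (_ : Field L) (i : K →+* L) (j : k →+* L), i.comp g = j.comp h := by
  have hp : (RingHom.ker g).IsPrime := RingHom.ker_isPrime g
  let g' : A ⧸ RingHom.ker g →+* K := Ideal.Quotient.lift _ g (fun a ha => ha)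
  let h' : A ⧸ RingHom.ker g →+* k := Ideal.Quotient.lift _ h (fun a ha => by
    rw [hk] at ha; exact ha)
  have hg' : Function.Injective g' := RingHom.lift_injective_of_ker_le_ideal _ _ le_rfl
  have hh' : Function.Injective h' := RingHom.lift_injective_of_ker_le_ideal _ _ hk.ge
  let gκ : FractionRing (A ⧸ RingHom.ker g) →+* K := IsFractionRing.lift hg'
  let hκ : FractionRing (A ⧸ RingHom.ker g) →+* k := IsFractionRing.lift hh'
  let _ : Algebra (FractionRing (A ⧸ RingHom.ker g)) K := gκ.toAlgebra
  let _ : Algebra (FractionRing (A ⧸ RingHom.ker g)) k := hκ.toAlgebra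
  obtain ⟨L, _, i, j, hij⟩ := exists_common_field (κ := FractionRing (A ⧸ RingHom.ker g))
    (K := K) (k := k)
  refine ⟨L, inferInstance, i, j, ?_⟩
  ext a
  have h1 : g a = gκ (algebraMap _ _ (Ideal.Quotient.mk (RingHom.ker g) a)) := by
    rw [IsFractionRing.lift_algebraMap hg']
    rfl
  have h2 : h a = hκ (algebraMap _ _ (Ideal.Quotient.mk (RingHom.ker g) a)) := by
    rw [IsFractionRing.lift_algebraMap hh']
    rfl
  rw [RingHom.comp_apply, RingHom.comp_apply, h1, h2]
  exact congrArg (fun φ : FractionRing (A ⧸ RingHom.ker g) →+* L =>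
    φ (algebraMap _ _ (Ideal.Quotient.mk (RingHom.ker g) a))) hij

end Groth.Agent.RedSub.H549.Common
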