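import Groth.Agent.RedSub.H549.IwaCell
import Mathlib.RingTheory.Valuation.LocalSubring
import Mathlib.RingTheory.LocalRing.ResidueField.Basic
import Mathlib.RingTheory.Localization.AtPrime.Basic

/-!
# Points of `Spec A` as words, over an extension of the residue field

`E : Iwa P b R A`, `BorClosed E`: the Borel subgroup `T U⁺` is closed in `Spec A` (functor form).
`Gam E B`: the subgroup generated by the `u_{±a}(B)`, `a` simple.
`exists_mem_of_valuation`: a point of `A` over a valuation ring `O` which is in the group generated by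
the torus and the root groups over `F = Frac O` is `γ β` with `γ ∈ Gam E O`, `β ∈ Bor E O`.
`exists_residue_word`: if `A` is a domain whose generic point is in that group, every prime of `A` is the
kernel of a point `γ β` over some field.
-/

set_option autoImplicit false
universe u

open Groth.Agent.Sga3B.Cell

namespace Groth.Agent.RedSub.H549.Dominate

open IwaCell

variable {idx M : Type} [AddCommGroup M] {P : RootPairing idx ℤ M (Module.Dual ℤ M)}
    {b : P.Base} {R A : Type u} [CommRing R] [CommRing A] [Algebra R A] [PtGrp R A]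
    (E : Iwa P b R A) {B C : Type u} [CommRing B] [Algebra R B] [CommRing C] [Algebra R C]

/-- The Borel subgroup `T U⁺` is closed in `Spec A`, functor form. -/
def BorClosed : Prop :=
  ∀ {B C : Type u} [CommRing B] [Algebra R B] [CommRing C] [Algebra R C] (φ : B →ₐ[R] C),
    Function.Injective φ → ∀ h : Pt R A B, Pt.map φ h ∈ E.Bor C → h ∈ E.Bor B

/-- The subgroup generated by the torus and all the root groups. -/
def All (B : Type u) [CommRing B] [Algebra R B] : Subgroup (Pt R A B) :=
  Subgroup.closure ((⋃ c, Set.range (E.uu c B)) ∪ Set.range (E.i B))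

/-- The subgroup generated by the `u_{±a}`, `a` simple. -/
def Gam (B : Type u) [CommRing B] [Algebra R B] : Subgroup (Pt R A B) :=
  Subgroup.closure {g | ∃ a ∈ b.support, ∃ x : B, g = E.uu a B x ∨
    g = E.uu (P.reflectionPerm a a) B x}

variable {E}

lemma uu_mem_Gam {a : idx} (ha : a ∈ b.support) (x : B) : E.uu a B x ∈ Gam E B :=
  Subgroup.subset_closure ⟨a, ha, x, Or.inl rfl⟩

lemma uu_neg_mem_Gam {a : idx} (ha : a ∈ b.support) (x : B) :
    E.uu (P.reflectionPerm a a) B x ∈ Gam E B :=
  Subgroup.subset_closure ⟨a, ha, x, Or.inr rfl⟩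

lemma Gam_le {H : Subgroup (Pt R A B)} (h1 : ∀ a ∈ b.support, ∀ x : B, E.uu a B x ∈ H)
    (h2 : ∀ a ∈ b.support, ∀ x : B, E.uu (P.reflectionPerm a a) B x ∈ H) : Gam E B ≤ H := by
  rw [Gam, Subgroup.closure_le]
  rintro g ⟨a, ha, x, rfl | rfl⟩
  · exact h1 a ha x
  · exact h2 a ha x

lemma map_mem_Gam (φ : B →ₐ[R] C) {g : Pt R A B} (hg : g ∈ Gam E B) : Pt.map φ g ∈ Gam E C := by
  have : Gam E B ≤ (Gam E C).comap (Pt.mapHom φ) := by
    apply Gam_le
    · intro a ha x
      rw [Subgroup.mem_comap, Pt.mapHom_apply, E.uu_nat]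
      exact uu_mem_Gam ha _
    · intro a ha x
      rw [Subgroup.mem_comap, Pt.mapHom_apply, E.uu_nat]
      exact uu_neg_mem_Gam ha _
  exact this hg

lemma map_mem_Bor (φ : B →ₐ[R] C) {g : Pt R A B} (hg : g ∈ E.Bor B) : Pt.map φ g ∈ E.Bor C := by
  obtain ⟨t, x, rfl⟩ := hg
  exact ⟨TPt.map φ t, fun a => φ (x a), by rw [Pt.map_mul, E.i_nat, E.posP_nat]⟩

lemma uu_mem_Gam_all [Finite idx] [P.IsReduced] (c : idx) (x : B) : E.uu c B x ∈ Gam E B :=
  E.uu_mem_of_simple (Gam E B) (fun _ ha x => uu_mem_Gam ha x) (fun _ ha x => uu_neg_mem_Gam ha x) c x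

section valuation

variable {F : Type u} [Field F] [Algebra R F]

/-- **Integral points as words.** -/
theorem exists_mem_of_valuation [Finite idx] [P.IsReduced] (hE : BorClosed E)
    (O : ValuationSubring F) [Algebra R O] [IsScalarTower R O F] (g : Pt R A O)
    (hg : Pt.map (IsScalarTower.toAlgHom R O F) g ∈ All E F) :
    ∃ γ ∈ Gam E O, ∃ β ∈ E.Bor O, g = γ * β := by
  set φ : O →ₐ[R] F := IsScalarTower.toAlgHom R O F with hφ
  have hinj : Function.Injective φ := Subtype.val_injective
  have hφx : ∀ x : O, φ x = (x : F) := fun x => rfl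
  obtain ⟨_, ⟨γ, hγ, rfl⟩, t, x, h1⟩ := E.exists_iwasawa O ((Gam E O).map (Pt.mapHom φ))
    (fun a ha x hx => ⟨E.uu a O ⟨x, hx⟩, uu_mem_Gam ha _, by
      rw [Pt.mapHom_apply, E.uu_nat]; rfl⟩)
    (fun a ha x hx => ⟨E.uu _ O ⟨x, hx⟩, uu_neg_mem_Gam ha _, by
      rw [Pt.mapHom_apply, E.uu_nat]; rfl⟩) hg
  refine ⟨γ, hγ, γ⁻¹ * g, hE φ hinj _ ⟨t, x, ?_⟩, by group⟩
  rw [Pt.map_mul, Pt.map_inv, h1, Pt.mapHom_apply]
  group

end valuation

/-- **Every prime of `A` is the kernel of a point `γ β` over a field**, if the generic point of the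
domain `A` is in the group generated by the torus and the root groups. -/
theorem exists_residue_word [Finite idx] [P.IsReduced] (hE : BorClosed E) [IsDomain A]
    (F : Type u) [Field F] [Algebra R F] [Algebra A F] [IsScalarTower R A F]
    [IsFractionRing A F]
    (hg : (Pt.mk (IsScalarTower.toAlgHom R A F) : Pt R A F) ∈ All E F) (z : Ideal A)
    [z.IsPrime] :
    ∃ (k : Type u) (_ : Field k) (_ : Algebra R k) (g : Pt R A k),
      RingHom.ker g.hom = z ∧ ∃ γ ∈ Gam E k, ∃ β ∈ E.Bor k, g = γ * β := by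
  -- the localization at `z`, with its map to `F`
  let Az := Localization.AtPrime z
  let f : Az →+* F := IsLocalization.lift (M := z.primeCompl) (g := algebraMap A F) (by
    intro y
    have hy : (y : A) ≠ 0 := fun h => y.2 (h ▸ z.zero_mem)
    exact isUnit_iff_ne_zero.mpr (fun h => hy
      ((injective_iff_map_eq_zero _).mp (IsFractionRing.injective A F) _ h)))
  have hf : ∀ a : A, f (algebraMap A Az a) = algebraMap A F a := fun a =>
    IsLocalization.lift_eq _ _
  obtain ⟨O, hO, hloc⟩ := IsLocalRing.exists_factor_valuationRing f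
  let f' : Az →+* O := f.codRestrict O.toSubring hO
  have hf' : ∀ y, ((f' y : O) : F) = f y := fun y => rfl
  let ψ : A →+* O := f'.comp (algebraMap A Az)
  have hψ : ∀ a, ((ψ a : O) : F) = algebraMap A F a := fun a => hf a
  let : Algebra R O := (ψ.comp (algebraMap R A)).toAlgebra
  have : IsScalarTower R O F := IsScalarTower.of_algebraMap_eq (fun r => by
    change algebraMap R F r = ((ψ (algebraMap R A r) : O) : F)
    rw [hψ, ← IsScalarTower.algebraMap_apply])
  let g : Pt R A O := Pt.mk { ψ with commutes' := fun r => rfl }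
  have hgmap : Pt.map (IsScalarTower.toAlgHom R O F) g =
      (Pt.mk (IsScalarTower.toAlgHom R A F) : Pt R A F) := by
    apply Pt.ext
    intro a
    exact hψ a
  obtain ⟨γ, hγ, β, hβ, hgb⟩ := exists_mem_of_valuation hE O g (by rw [hgmap]; exact hg)
  let k := IsLocalRing.ResidueField O
  let π : O →ₐ[R] k := IsScalarTower.toAlgHom R O k
  refine ⟨k, inferInstance, inferInstance, Pt.map π g, ?_, Pt.map π γ, map_mem_Gam π hγ,
    Pt.map π β, map_mem_Bor π hβ, by rw [hgb, Pt.map_mul]⟩
  ext a
  have h1 : (Pt.map π g).hom a = IsLocalRing.residue O (ψ a) := rfl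
  rw [RingHom.mem_ker, h1, IsLocalRing.residue_eq_zero_iff, IsLocalRing.mem_maximalIdeal,
    mem_nonunits_iff]
  have h2 : IsUnit (ψ a) ↔ IsUnit (algebraMap A Az a) := by
    constructor
    · intro h
      exact hloc.map_nonunit (algebraMap A Az a) h
    · exact fun h => h.map f'
  rw [h2, IsLocalization.AtPrime.isUnit_to_map_iff Az z a]
  simp [Ideal.primeCompl]

end Groth.Agent.RedSub.H549.Dominate
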