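import Groth.Agent.RedSub.H549.RankOneIwa
import Mathlib.Algebra.Group.Subgroup.Lattice
import Mathlib.Algebra.Group.Submonoid.Membership

/-!
# The Iwasawa decomposition, abstract form

`G` a group, `D i` rank one data indexed by the simple roots, `Bp` a submonoid (the `F`-points of the
Borel subgroup) with `b Y_i(c) = X_i(d) Y_i(c') b'`.  Then every element of the monoid generated by
`Bp` and the `Y_i(c)` lies in `Γ Bp`, for `Γ` any subgroup containing the `X_i(O)`, `Y_i(O)`.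
-/

set_option autoImplicit false

namespace Groth.Agent.RedSub.H549.IwaAbs

open RankOneIwa

variable {ι F G : Type*} [Field F] [Group G]

/-- **Iwasawa decomposition**, abstract form. -/
theorem exists_mul (D : ι → R1 F G) (Bp : Submonoid G)
    (hXB : ∀ i x, (D i).X x ∈ Bp) (hhB : ∀ i v, (D i).h v ∈ Bp)
    (hstep : ∀ i, ∀ b ∈ Bp, ∀ c : F, ∃ d c' : F, ∃ b' ∈ Bp,
      b * (D i).Y c = (D i).X d * (D i).Y c' * b')
    (O : ValuationSubring F) (Γ : Subgroup G)
    (hX : ∀ i, ∀ c ∈ O, (D i).X c ∈ Γ) (hY : ∀ i, ∀ c ∈ O, (D i).Y c ∈ Γ)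
    {g : G} (hg : g ∈ Submonoid.closure ((Bp : Set G) ∪ ⋃ i, Set.range (D i).Y)) :
    ∃ γ ∈ Γ, ∃ b ∈ Bp, g = γ * b := by
  induction hg using Submonoid.closure_induction_right with
  | one => exact ⟨1, Γ.one_mem, 1, Bp.one_mem, by simp⟩
  | mul_right x hx y hy ih =>
    obtain ⟨γ, hγ, b, hb, rfl⟩ := ih
    rcases hy with hy | hy
    · exact ⟨γ, hγ, b * y, Bp.mul_mem hb hy, mul_assoc _ _ _⟩
    · obtain ⟨i, c, rfl⟩ := Set.mem_iUnion.mp hy
      obtain ⟨d, c', b', hb', h1⟩ := hstep i b hb c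
      obtain ⟨δ, hδ, v, e, h2⟩ := (D i).exists_iwa O Γ (hX i) (hY i) d c'
      refine ⟨γ * δ, Γ.mul_mem hγ hδ, (D i).h v * (D i).X e * b',
        Bp.mul_mem (Bp.mul_mem (hhB i v) (hXB i e)) hb', ?_⟩
      rw [mul_assoc, h1, h2]
      simp only [mul_assoc]

end Groth.Agent.RedSub.H549.IwaAbs
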