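import Groth.Agent.RedSub.H549.IwaAbs
import Groth.Agent.Sga3B.PinCell

/-!
# Iwasawa decomposition for group functors with torus, root groups and rank one relations

`Iwa P b R A`: the part of the data of a pinned split group `Spec A` over `R` which is needed for the
Iwasawa decomposition `G(F) ⊇ ⟨T(F), U_a(F)⟩ = Γ T(F) U⁺(F)` for a valuation ring `O` of a field `F`,
`Γ` any subgroup containing the `u_{±a}(O)`, `a` simple (`Iwa.exists_iwasawa`).
-/

set_option autoImplicit false
universe u

open Groth.Agent.Sga3B.Cell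

namespace Groth.Agent.RedSub.H549.IwaCell

open RankOneIwa

/-- Torus, root groups and the relations needed for the Iwasawa decomposition. -/
structure Iwa {idx M : Type} [AddCommGroup M] (P : RootPairing idx ℤ M (Module.Dual ℤ M))
    (b : P.Base) (R A : Type u) [CommRing R] [CommRing A] [Algebra R A] [PtGrp R A] where
  pairing_eq : P.toLinearMap = Module.Dual.eval ℤ M
  /-- the torus -/
  i : ∀ (B : Type u) [CommRing B] [Algebra R B], TPt M B →* Pt R A B
  i_nat : ∀ {B C : Type u} [CommRing B] [Algebra R B] [CommRing C] [Algebra R C] (φ : B →ₐ[R] C)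
    (t : TPt M B), Pt.map φ (i B t) = i C (TPt.map φ t)
  /-- the root homomorphisms -/
  uu : idx → ∀ (B : Type u) [CommRing B] [Algebra R B], B → Pt R A B
  uu_add : ∀ (a : idx) {B : Type u} [CommRing B] [Algebra R B] (x y : B),
    uu a B (x + y) = uu a B x * uu a B y
  uu_nat : ∀ (a : idx) {B C : Type u} [CommRing B] [Algebra R B] [CommRing C] [Algebra R C]
    (φ : B →ₐ[R] C) (x : B), Pt.map φ (uu a B x) = uu a C (φ x)
  rel : ∀ (a : idx) {B : Type u} [CommRing B] [Algebra R B] (t : TPt M B) (x : B),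
    i B t * uu a B x * (i B t)⁻¹ = uu a B (TPt.ch (P.root a) t * x)
  rank1 : ∀ a ∈ b.support, ∀ {B : Type u} [CommRing B] [Algebra R B] (x y : B) (v : Bˣ),
    (v : B) = 1 + x * y → uu a B x * uu (P.reflectionPerm a a) B y =
      uu (P.reflectionPerm a a) B ((v⁻¹ : Bˣ) * y) * i B (TPt.cow (P.coroot a) v) *
        uu a B ((v⁻¹ : Bˣ) * x)
  conj : ∀ a ∈ b.support, ∀ c : idx, ∃ r : Rˣ, ∀ {B : Type u} [CommRing B] [Algebra R B] (x : B),
    (uu a B 1 * uu (P.reflectionPerm a a) B (-1) * uu a B 1) * uu c B x *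
      (uu a B 1 * uu (P.reflectionPerm a a) B (-1) * uu a B 1)⁻¹ =
      uu (P.reflectionPerm a c) B (algebraMap R B r * x)
  /-- the positive roots, in some order -/
  posL : List idx
  posL_nodup : posL.Nodup
  mem_posL : ∀ a, a ∈ posL ↔ b.IsPos a
  pos_mul : ∀ {B : Type u} [CommRing B] [Algebra R B] (x y : idx → B), ∃ z : idx → B,
    (posL.map (fun a => uu a B (x a))).prod * (posL.map (fun a => uu a B (y a))).prod =
      (posL.map (fun a => uu a B (z a))).prod ∧ ∀ a ∈ b.support, z a = x a + y a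
  pos_norm : ∀ a ∈ b.support, ∀ {B : Type u} [CommRing B] [Algebra R B] (t : B) (x : idx → B),
    x a = 0 → ∃ z : idx → B, z a = 0 ∧
      uu (P.reflectionPerm a a) B t * (posL.map fun c => uu c B (x c)).prod =
        (posL.map fun c => uu c B (z c)).prod * uu (P.reflectionPerm a a) B t

namespace Iwa

variable {idx M : Type} [AddCommGroup M] {P : RootPairing idx ℤ M (Module.Dual ℤ M)}
    {b : P.Base} {R A : Type u} [CommRing R] [CommRing A] [Algebra R A] [PtGrp R A]
    (E : Iwa P b R A) {B C : Type u} [CommRing B] [Algebra R B] [CommRing C] [Algebra R C]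

@[simp] lemma uu_zero (a : idx) : E.uu a B (0 : B) = 1 := by
  have h := E.uu_add a (0 : B) 0
  rw [add_zero] at h
  exact (mul_eq_left.mp h.symm)

lemma uu_neg (a : idx) (x : B) : E.uu a B (-x) = (E.uu a B x)⁻¹ := by
  rw [eq_inv_iff_mul_eq_one, ← E.uu_add, neg_add_cancel, E.uu_zero]

/-- the product of the positive root elements -/
def posP (x : idx → B) : Pt R A B := (E.posL.map (fun a => E.uu a B (x a))).prod

lemma posP_nat (φ : B →ₐ[R] C) (x : idx → B) :
    Pt.map φ (E.posP x) = E.posP (fun a => φ (x a)) := by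
  unfold posP
  rw [Pt.map_list_prod, List.map_map]
  congr 1
  apply List.map_congr_left
  intro a _
  simp [E.uu_nat]

lemma exists_posP_mul (x y : idx → B) : ∃ z : idx → B, E.posP x * E.posP y = E.posP z ∧
    ∀ a ∈ b.support, z a = x a + y a := E.pos_mul x y

lemma posP_single [DecidableEq idx] {a : idx} (ha : b.IsPos a) (x : B) :
    E.posP (Pi.single a x) = E.uu a B x := by
  have key : ∀ L : List idx, L.Nodup →
      (L.map (fun c => E.uu c B ((Pi.single a x : idx → B) c))).prod =
        if a ∈ L then E.uu a B x else 1 := by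
    intro L
    induction L with
    | nil => simp
    | cons c L ih =>
      intro hL
      rw [List.nodup_cons] at hL
      rw [List.map_cons, List.prod_cons, ih hL.2]
      by_cases hc : c = a
      · subst hc
        simp [hL.1]
      · rw [Pi.single_eq_of_ne hc, E.uu_zero, one_mul]
        have : (a ∈ c :: L) ↔ a ∈ L := by
          rw [List.mem_cons]
          constructor
          · rintro (h | h)
            · exact absurd h.symm hc
            · exact h
          · exact Or.inr
        simp only [this]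
  rw [posP, key E.posL E.posL_nodup, if_pos ((E.mem_posL a).mpr ha)]

@[simp] lemma posP_zero : E.posP (0 : idx → B) = 1 := by
  unfold posP
  apply List.prod_eq_one
  intro y hy
  obtain ⟨a, _, rfl⟩ := List.mem_map.mp hy
  simp

lemma i_mul_posP (t : TPt M B) (x : idx → B) :
    E.i B t * E.posP x = E.posP (fun a => TPt.ch (P.root a) t * x a) * E.i B t := by
  unfold posP
  induction E.posL with
  | nil => simp
  | cons a L ih =>
    simp only [List.map_cons, List.prod_cons]
    rw [← mul_assoc, mul_assoc (E.uu a B _), ← ih, ← mul_assoc, ← E.rel]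
    group

/-- the points of the Borel subgroup `T U⁺` -/
def Bor (B : Type u) [CommRing B] [Algebra R B] : Submonoid (Pt R A B) where
  carrier := {g | ∃ (t : TPt M B) (x : idx → B), g = E.i B t * E.posP x}
  one_mem' := ⟨1, 0, by simp⟩
  mul_mem' := by
    rintro _ _ ⟨t, x, rfl⟩ ⟨s, y, rfl⟩
    -- `t u s v = (t s) (s⁻¹ u s) v`
    have h1 := E.i_mul_posP s (fun a => TPt.ch (P.root a) s⁻¹ * x a)
    have h2 : (fun a => TPt.ch (P.root a) s * (TPt.ch (P.root a) s⁻¹ * x a)) = x := by
      funext a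
      rw [← mul_assoc, ← TPt.ch_mul, show s * s⁻¹ = 1 from mul_inv_cancel s, TPt.ch_one, one_mul]
    rw [h2] at h1
    obtain ⟨z, hz, -⟩ := E.exists_posP_mul (fun a => TPt.ch (P.root a) s⁻¹ * x a) y
    refine ⟨t * s, z, ?_⟩
    rw [map_mul, ← hz, mul_assoc, ← mul_assoc (E.posP x), ← h1]
    simp only [mul_assoc]

variable {E} in
lemma mem_Bor {g : Pt R A B} : g ∈ E.Bor B ↔
    ∃ (t : TPt M B) (x : idx → B), g = E.i B t * E.posP x := Iff.rfl

lemma i_mem_Bor (t : TPt M B) : E.i B t ∈ E.Bor B := ⟨t, 0, by simp⟩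

lemma posP_mem_Bor (x : idx → B) : E.posP x ∈ E.Bor B := ⟨1, x, by simp⟩

lemma uu_mem_Bor {a : idx} (ha : b.IsPos a) (x : B) : E.uu a B x ∈ E.Bor B := by
  classical
  rw [← E.posP_single ha]
  exact E.posP_mem_Bor _

include E in
lemma coroot_root_self (a : idx) : P.coroot a (P.root a) = 2 := by
  have h := P.root_coroot_two a
  rw [E.pairing_eq] at h
  exact h

/-- The rank one data of a simple root. -/
def r1 (F : Type u) [Field F] [Algebra R F] (a : b.support) : R1 F (Pt R A F) where
  X := E.uu a F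
  Y := E.uu (P.reflectionPerm a a) F
  h :=
    { toFun := fun v => E.i F (TPt.cow (P.coroot a) v)
      map_one' := by
        have : (TPt.cow (P.coroot (a : idx)) (1 : Fˣ) : TPt M F) = 1 := by
          apply TPt.ext_ch; intro m; simp [TPt.ch_cow]
        rw [this, map_one]
      map_mul' := fun v w => by
        have : (TPt.cow (P.coroot (a : idx)) (v * w) : TPt M F) =
            TPt.cow (P.coroot (a : idx)) v * TPt.cow (P.coroot (a : idx)) w := by
          apply TPt.ext_ch; intro m
          rw [TPt.ch_mul, TPt.ch_cow, TPt.ch_cow, TPt.ch_cow, mul_zpow, Units.val_mul]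
        rw [this, map_mul] }
  X_add := E.uu_add a
  Y_add := E.uu_add _
  hX v x := by
    change E.i F _ * E.uu a F x * (E.i F _)⁻¹ = _
    rw [E.rel, TPt.ch_cow, E.coroot_root_self]
    norm_cast
  rank1 x y v hv := by
    have := E.rank1 a a.2 x y v hv
    simpa [Units.val_inv_eq_inv_val] using this

variable {F : Type u} [Field F] [Algebra R F]

lemma bor_step (a : b.support) {g : Pt R A F} (hg : g ∈ E.Bor F) (c : F) :
    ∃ d c' : F, ∃ g' ∈ E.Bor F, g * (E.r1 F a).Y c = (E.r1 F a).X d * (E.r1 F a).Y c' * g' := by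
  classical
  obtain ⟨t, x, rfl⟩ := hg
  have hpos : b.IsPos (a : idx) := RootPairing.Base.isPos_of_mem_support a.2
  -- `X_a(-x_a) u(x) = u(x')`, `x'_a = 0`
  obtain ⟨x', hx', hx'2⟩ := E.exists_posP_mul (Pi.single (a : idx) (-(x a))) x
  have h0 : x' a = 0 := by rw [hx'2 a a.2, Pi.single_eq_same, neg_add_cancel]
  rw [E.posP_single hpos] at hx'
  have h1 : E.posP x = E.uu a F (x a) * E.posP x' := by
    rw [← hx', E.uu_neg]; group
  obtain ⟨z, hz0, hz⟩ := E.pos_norm a a.2 (-c) x' h0
  change E.uu _ F (-c) * E.posP x' = E.posP z * _ at hz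
  have h2 : E.posP x' * E.uu (P.reflectionPerm a a) F c =
      E.uu (P.reflectionPerm a a) F c * E.posP z := by
    rw [E.uu_neg] at hz
    rw [← inv_mul_eq_iff_eq_mul, ← mul_assoc, hz]
    group
  refine ⟨TPt.ch (P.root a) t * x a, TPt.ch (P.root (P.reflectionPerm a a)) t * c,
    E.i F t * E.posP z, ⟨t, z, rfl⟩, ?_⟩
  change E.i F t * E.posP x * E.uu (P.reflectionPerm a a) F c =
    E.uu a F _ * E.uu (P.reflectionPerm a a) F _ * _
  rw [h1, ← E.rel, ← E.rel]
  calc E.i F t * (E.uu a F (x a) * E.posP x') * E.uu (P.reflectionPerm a a) F c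
      = E.i F t * E.uu a F (x a) * (E.posP x' * E.uu (P.reflectionPerm a a) F c) := by group
    _ = E.i F t * E.uu a F (x a) * (E.uu (P.reflectionPerm a a) F c * E.posP z) := by rw [h2]
    _ = _ := by group

/-- the subgroup generated by the torus and the simple root groups `u_{±a}(F)` contains all the root
groups -/
lemma uu_mem_of_simple [Finite idx] [P.IsReduced] (H : Subgroup (Pt R A B))
    (hX : ∀ a ∈ b.support, ∀ x : B, E.uu a B x ∈ H)
    (hY : ∀ a ∈ b.support, ∀ x : B, E.uu (P.reflectionPerm a a) B x ∈ H) (c : idx) :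
    ∀ x : B, E.uu c B x ∈ H := by
  have hconj : ∀ a ∈ b.support, ∀ c : idx, (∀ x : B, E.uu c B x ∈ H) →
      ∀ x : B, E.uu (P.reflectionPerm a c) B x ∈ H := by
    intro a ha c hc x
    obtain ⟨r, hr⟩ := E.conj a ha c
    have h1 := hr (B := B) (algebraMap R B (r⁻¹ : Rˣ) * x)
    rw [← mul_assoc, ← map_mul, ← Units.val_mul, mul_inv_cancel, Units.val_one, map_one,
      one_mul] at h1
    rw [← h1]
    have hn : E.uu a B 1 * E.uu (P.reflectionPerm a a) B (-1) * E.uu a B 1 ∈ H :=
      H.mul_mem (H.mul_mem (hX a ha _) (hY a ha _)) (hX a ha _)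
    exact H.mul_mem (H.mul_mem hn (hc _)) (H.inv_mem hn)
  suffices h : (∀ x : B, E.uu c B x ∈ H) ∧ (∀ x : B, E.uu (P.reflectionPerm c c) B x ∈ H) from h.1
  have hneg : ∀ c : idx, P.reflectionPerm (P.reflectionPerm c c) (P.reflectionPerm c c) = c := by
    intro a
    apply P.root.injective
    rw [P.root_reflectionPerm, P.reflection_apply_self, P.root_reflectionPerm,
      P.reflection_apply_self, neg_neg]
  have hneg2 : ∀ a c : idx, P.reflectionPerm (P.reflectionPerm a c) (P.reflectionPerm a c) =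
      P.reflectionPerm a (P.reflectionPerm c c) := by
    intro a c
    apply P.root.injective
    rw [P.root_reflectionPerm, P.reflection_apply_self, P.root_reflectionPerm,
      P.root_reflectionPerm, P.root_reflectionPerm, P.reflection_apply_self, map_neg]
  induction c using b.induction_reflect with
  | h₀ c ih => exact ⟨ih.2, by rw [hneg]; exact ih.1⟩
  | h₁ c hc => exact ⟨hX c hc, hY c hc⟩
  | h₂ c a ih ha => exact ⟨hconj a ha c ih.1, by rw [hneg2]; exact hconj a ha _ ih.2⟩

/-- **Iwasawa decomposition.** -/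
theorem exists_iwasawa [Finite idx] [P.IsReduced] (O : ValuationSubring F) (Γ : Subgroup (Pt R A F))
    (hX : ∀ a ∈ b.support, ∀ x ∈ O, E.uu a F x ∈ Γ)
    (hY : ∀ a ∈ b.support, ∀ x ∈ O, E.uu (P.reflectionPerm a a) F x ∈ Γ)
    {g : Pt R A F} (hg : g ∈ Subgroup.closure
      ((⋃ c, Set.range (E.uu c F)) ∪ Set.range (E.i F))) :
    ∃ γ ∈ Γ, ∃ (t : TPt M F) (x : idx → F), g = γ * (E.i F t * E.posP x) := by
  classical
  -- the submonoid generated by the Borel subgroup and the negative simple root groups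
  set S : Submonoid (Pt R A F) :=
    Submonoid.closure ((E.Bor F : Set (Pt R A F)) ∪ ⋃ a, Set.range (E.r1 F a).Y) with hS
  have hBS : E.Bor F ≤ S := fun y hy => Submonoid.subset_closure (Or.inl hy)
  have hYS : ∀ a ∈ b.support, ∀ x : F, E.uu (P.reflectionPerm a a) F x ∈ S := fun a ha x =>
    Submonoid.subset_closure (Or.inr (Set.mem_iUnion.mpr ⟨⟨a, ha⟩, x, rfl⟩))
  -- the corresponding subgroup
  let H : Subgroup (Pt R A F) :=
    { carrier := {y | y ∈ S ∧ y⁻¹ ∈ S}
      one_mem' := ⟨S.one_mem, by simp⟩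
      mul_mem' := fun {x y} hx hy => ⟨S.mul_mem hx.1 hy.1, by
        rw [mul_inv_rev]; exact S.mul_mem hy.2 hx.2⟩
      inv_mem' := fun {x} hx => ⟨hx.2, by rw [inv_inv]; exact hx.1⟩ }
  have h1 : ∀ a ∈ b.support, ∀ x : F, E.uu a F x ∈ H := fun a ha x =>
    ⟨hBS (E.uu_mem_Bor (RootPairing.Base.isPos_of_mem_support ha) x), by
      rw [← E.uu_neg]; exact hBS (E.uu_mem_Bor (RootPairing.Base.isPos_of_mem_support ha) _)⟩
  have h2 : ∀ a ∈ b.support, ∀ x : F, E.uu (P.reflectionPerm a a) F x ∈ H := fun a ha x =>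
    ⟨hYS a ha x, by rw [← E.uu_neg]; exact hYS a ha _⟩
  have h3 : ∀ t : TPt M F, E.i F t ∈ H := fun t =>
    ⟨hBS (E.i_mem_Bor t), by rw [← map_inv]; exact hBS (E.i_mem_Bor _)⟩
  have h4 : Subgroup.closure ((⋃ c, Set.range (E.uu c F)) ∪ Set.range (E.i F)) ≤ H := by
    rw [Subgroup.closure_le]
    rintro y (hy | ⟨t, rfl⟩)
    · obtain ⟨c, x, rfl⟩ := Set.mem_iUnion.mp hy
      exact E.uu_mem_of_simple H h1 h2 c x
    · exact h3 t
  obtain ⟨γ, hγ, y, ⟨t, x, rfl⟩, h5⟩ := IwaAbs.exists_mul (fun a => E.r1 F a) (E.Bor F)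
    (fun a x => E.uu_mem_Bor (RootPairing.Base.isPos_of_mem_support a.2) x)
    (fun a v => E.i_mem_Bor _) (fun a y hy c => E.bor_step a hy c) O Γ
    (fun a c hc => hX a a.2 c hc) (fun a c hc => hY a a.2 c hc) (h4 hg).1
  exact ⟨γ, hγ, t, x, h5⟩

end Iwa

end Groth.Agent.RedSub.H549.IwaCell
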