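import Groth.Agent.RedSub.H549.PathVan
import Groth.Agent.RedSub.H549.Common

/-!
# Functions vanishing on the big cell are nilpotent
-/

set_option autoImplicit false
universe u

open Groth.Agent.Sga3B.Cell TensorProduct Polynomial

namespace Groth.Agent.RedSub.H549.NilCell

open IwaCell Dominate PathVan

/-- A function on an affine scheme of finite type over an algebraically closed field which vanishes at all
the rational points is nilpotent. -/
theorem isNilpotent_of_points {K S : Type u} [Field K] [IsAlgClosed K] [CommRing S] [Algebra K S]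
    [Algebra.FiniteType K S] (z : S) (hz : ∀ g : S →ₐ[K] K, g z = 0) : IsNilpotent z := by
  have hJ : IsJacobsonRing S := isJacobsonRing_of_finiteType (A := K)
  have h1 : z ∈ (⊥ : Ideal S).jacobson := by
    rw [Ideal.jacobson, Ideal.mem_sInf]
    rintro m ⟨-, hm⟩
    let _ : Field (S ⧸ m) := Ideal.Quotient.field m
    have hfin : Module.Finite K (S ⧸ m) := finite_of_finite_type_of_isJacobsonRing K (S ⧸ m)
    have hbij : Function.Bijective (algebraMap K (S ⧸ m)) :=
      IsAlgClosed.algebraMap_bijective_of_isIntegral
    let e : K ≃ₐ[K] (S ⧸ m) := AlgEquiv.ofBijective (Algebra.ofId K (S ⧸ m)) hbij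
    have h2 := hz ((e.symm : (S ⧸ m) →ₐ[K] K).comp (Ideal.Quotient.mkₐ K m))
    rw [AlgHom.comp_apply] at h2
    have h3 : Ideal.Quotient.mkₐ K m z = 0 := by
      have := congrArg e h2
      simpa using this
    exact Ideal.Quotient.eq_zero_iff_mem.mp h3
  rw [← Ideal.radical_eq_jacobson] at h1
  exact h1

variable {idx M : Type} [AddCommGroup M] {P : RootPairing idx ℤ M (Module.Dual ℤ M)}
    {b : P.Base} {R A : Type u} [CommRing R] [CommRing A] [Algebra R A] [PtGrp R A]
    {E : Iwa P b R A}

/-- **Functions vanishing on the big cell are nilpotent**, over every algebraically closed field over `R`,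
if `A` is a domain. -/
theorem isNilpotent_of_cell [Finite idx] [P.IsReduced] (hE : BorClosed E) [IsDomain A]
    [Algebra.FiniteType R A] {f : A}
    (hf1 : ∀ {B : Type u} [CommRing B] [Algebra R B] (t : TPt M B), IsUnit ((E.i B t).hom f))
    (hf2 : ∀ (F : Type u) [Field F] [Algebra R F] (g : Pt R A F), IsUnit (g.hom f) →
      g ∈ All E F)
    (K : Type u) [Field K] [IsAlgClosed K] [Algebra R K] {z : K ⊗[R] A}
    (hz : ∀ (B : Type u) [Field B] [Algebra R B] [Algebra K B] [IsScalarTower R K B]
      (g : Pt R A B), IsUnit (g.hom f) → ev K g z = 0) : IsNilpotent z := by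
  apply isNilpotent_of_points (K := K)
  intro φ
  rw [← ev_includeRight K φ]
  set g₀ : Pt R A K := Pt.mk ((φ.restrictScalars R).comp Algebra.TensorProduct.includeRight) with hg₀
  -- `f ≠ 0`
  have hf0 : f ≠ 0 := by
    intro h
    have := hf1 (B := K) 1
    rw [h, map_zero] at this
    exact not_isUnit_zero this
  let F := FractionRing A
  have hgen : (Pt.mk (IsScalarTower.toAlgHom R A F) : Pt R A F) ∈ All E F := by
    apply hf2
    apply isUnit_iff_ne_zero.mpr
    intro h
    apply hf0
    apply IsFractionRing.injective A F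
    rw [map_zero]
    exact h
  have hprime : (RingHom.ker g₀.hom).IsPrime := RingHom.ker_isPrime _
  obtain ⟨k, _, _, g, hker, γ, hγ, β, hβ, hg⟩ :=
    exists_residue_word hE F hgen (RingHom.ker g₀.hom)
  obtain ⟨L, _, i, j, hij⟩ := Common.exists_common (g₀.hom : A →+* K) (g.hom : A →+* k) (by
    rw [show RingHom.ker (g.hom : A →+* k) = RingHom.ker g.hom from rfl, hker]
    rfl)
  let _ : Algebra K L := i.toAlgebra
  let _ : Algebra R L := (i.comp (algebraMap R K)).toAlgebra
  have : IsScalarTower R K L := IsScalarTower.of_algebraMap_eq (fun _ => rfl)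
  let i' : K →ₐ[K] L := Algebra.ofId K L
  let j' : k →ₐ[R] L := { j with
    commutes' := fun r => by
      have h1 := congrArg (fun h : A →+* L => h (algebraMap R A r)) hij
      simp only [RingHom.comp_apply] at h1
      change j (algebraMap R k r) = i (algebraMap R K r)
      have h2 : (g₀.hom : A →+* K) (algebraMap R A r) = algebraMap R K r := g₀.hom.commutes r
      have h3 : (g.hom : A →+* k) (algebraMap R A r) = algebraMap R k r := g.hom.commutes r
      rw [h2, h3] at h1
      exact h1.symm }
  have h4 : Pt.map (i'.restrictScalars R) g₀ = Pt.map j' g := by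
    apply Pt.ext
    intro a
    exact congrArg (fun h : A →+* L => h a) hij
  have h5 : i' (ev K g₀ z) = 0 := by
    rw [map_ev, h4, hg, Pt.map_mul]
    exact ev_eq_zero_of_word hf1 K hz (map_mem_Gam j' hγ) (map_mem_Bor j' hβ)
  have h6 : Function.Injective i' := RingHom.injective (i' : K →+* L)
  exact h6 (by rw [h5, map_zero])

end Groth.Agent.RedSub.H549.NilCell
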