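import Groth.Agent.RedSub.H549.Dominate
import Mathlib.RingTheory.TensorProduct.Maps
import Mathlib.RingTheory.TensorProduct.Basic
import Mathlib.RingTheory.Jacobson.Ring
import Mathlib.RingTheory.Nullstellensatz
import Mathlib.FieldTheory.IsAlgClosed.Basic
import Mathlib.RingTheory.Polynomial.Basic
import Mathlib.RingTheory.Ideal.Quotient.Operations

/-!
# Functions vanishing on the big cell are nilpotent

`f : A` the equation of the complement of the big cell.  `exists_path`: every point `γ β` over a field `L`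
is joined to a torus point by a point over `L[X]`.  `ev_eq_zero_of_word`: a function on `Spec (K ⊗ A)`
which vanishes on the big cell vanishes at all points `γ β`.  `isNilpotent_of_cell`: hence (if every point
over `K` algebraically closed is of this form over an extension) it is nilpotent.
-/

set_option autoImplicit false
universe u

open Groth.Agent.Sga3B.Cell TensorProduct Polynomial

namespace Groth.Agent.RedSub.H549.PathVan

open IwaCell Dominate

section ev

variable {R A : Type u} [CommRing R] [CommRing A] [Algebra R A]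
  (K : Type u) [CommRing K] [Algebra R K] {B C : Type u} [CommRing B] [Algebra R B] [Algebra K B]
  [IsScalarTower R K B] [CommRing C] [Algebra R C] [Algebra K C] [IsScalarTower R K C]

/-- evaluation of functions on `Spec (K ⊗ A)` at a point of `Spec A` over a `K`-algebra -/
noncomputable def ev (g : Pt R A B) : K ⊗[R] A →ₐ[K] B :=
  Algebra.TensorProduct.lift (Algebra.ofId K B) g.hom (fun _ _ => Commute.all _ _)

@[simp] lemma ev_tmul (g : Pt R A B) (c : K) (a : A) :
    ev K g (c ⊗ₜ a) = algebraMap K B c * g.hom a := by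
  simp [ev, Algebra.ofId_apply]

lemma map_ev (φ : B →ₐ[K] C) (g : Pt R A B) (x : K ⊗[R] A) :
    φ (ev K g x) = ev K (Pt.map (φ.restrictScalars R) g) x := by
  have : φ.comp (ev K g) = ev K (Pt.map (φ.restrictScalars R) g) := by
    apply Algebra.TensorProduct.ext
    · exact Subsingleton.elim _ _
    · ext a
      simp
  exact congrArg (fun h : K ⊗[R] A →ₐ[K] C => h x) this

lemma ev_includeRight (g : K ⊗[R] A →ₐ[K] B) :
    ev K (Pt.mk ((g.restrictScalars R).comp Algebra.TensorProduct.includeRight)) = g := by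
  apply Algebra.TensorProduct.ext
  · exact Subsingleton.elim _ _
  · ext a
    simp

end ev

variable {idx M : Type} [AddCommGroup M] {P : RootPairing idx ℤ M (Module.Dual ℤ M)}
    {b : P.Base} {R A : Type u} [CommRing R] [CommRing A] [Algebra R A] [PtGrp R A]
    (E : Iwa P b R A)

/-- specialisation `X ↦ c` as an `R`-algebra homomorphism -/
noncomputable def sp (R : Type u) [CommRing R] {L : Type u} [CommRing L] [Algebra R L] (c : L) :
    L[X] →ₐ[R] L := (Polynomial.aeval (R := L) c).restrictScalars R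

@[simp] lemma sp_X {L : Type u} [CommRing L] [Algebra R L] (c : L) : sp R c X = c := by simp [sp]

@[simp] lemma sp_C {L : Type u} [CommRing L] [Algebra R L] (c x : L) : sp R c (C x) = x := by
  simp [sp]

lemma exists_path_Gam {L : Type u} [CommRing L] [Algebra R L] {γ : Pt R A L}
    (hγ : γ ∈ Gam E L) :
    ∃ W : Pt R A L[X], Pt.map (sp R (1 : L)) W = γ ∧ Pt.map (sp R (0 : L)) W = 1 := by
  let H : Subgroup (Pt R A L) :=
    { carrier := {γ | ∃ W : Pt R A L[X], Pt.map (sp R (1 : L)) W = γ ∧
        Pt.map (sp R (0 : L)) W = 1}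
      one_mem' := ⟨1, Pt.map_one _, Pt.map_one _⟩
      mul_mem' := by
        rintro _ _ ⟨W, rfl, h⟩ ⟨W', rfl, h'⟩
        exact ⟨W * W', Pt.map_mul _ _ _, by rw [Pt.map_mul, h, h', one_mul]⟩
      inv_mem' := by
        rintro _ ⟨W, rfl, h⟩
        exact ⟨W⁻¹, Pt.map_inv _ _, by rw [Pt.map_inv, h, inv_one]⟩ }
  have key : ∀ (a : idx) (x : L), E.uu a L x ∈ H := fun a x =>
    ⟨E.uu a L[X] (X * C x), by rw [E.uu_nat]; simp, by rw [E.uu_nat]; simp⟩
  exact Gam_le (fun a _ x => key a x) (fun a _ x => key _ x) hγ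

lemma exists_path_Bor {L : Type u} [CommRing L] [Algebra R L] {β : Pt R A L}
    (hβ : β ∈ E.Bor L) :
    ∃ W : Pt R A L[X], Pt.map (sp R (1 : L)) W = β ∧
      ∃ t, Pt.map (sp R (0 : L)) W = E.i L t := by
  obtain ⟨t, x, rfl⟩ := hβ
  let ι : L →ₐ[R] L[X] := IsScalarTower.toAlgHom R L L[X]
  have h1 : ∀ (c : L), TPt.map (sp R c) (TPt.map ι t) = t := by
    intro c
    apply TPt.ext_ch
    intro m
    rw [TPt.ch_map, TPt.ch_map]
    exact sp_C c _
  refine ⟨E.i L[X] (TPt.map ι t) * E.posP (fun a => X * C (x a)), ?_, t, ?_⟩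
  · rw [Pt.map_mul, E.i_nat, E.posP_nat, h1]
    simp
  · rw [Pt.map_mul, E.i_nat, E.posP_nat, h1]
    have : (fun a => sp R (0 : L) (X * C (x a))) = (0 : idx → L) := by
      funext a; simp
    rw [this, E.posP_zero, mul_one]

/-- Every point `γ β` is joined to a torus point. -/
theorem exists_path {L : Type u} [CommRing L] [Algebra R L] {γ β : Pt R A L}
    (hγ : γ ∈ Gam E L) (hβ : β ∈ E.Bor L) :
    ∃ W : Pt R A L[X], Pt.map (sp R (1 : L)) W = γ * β ∧
      ∃ t, Pt.map (sp R (0 : L)) W = E.i L t := by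
  obtain ⟨W, h1, h2⟩ := exists_path_Gam E hγ
  obtain ⟨W', h3, t, h4⟩ := exists_path_Bor E hβ
  exact ⟨W * W', by rw [Pt.map_mul, h1, h3], t, by rw [Pt.map_mul, h2, h4, one_mul]⟩

variable {E} {f : A}
  (hf : ∀ {B : Type u} [CommRing B] [Algebra R B] (t : TPt M B), IsUnit ((E.i B t).hom f))

include hf in
/-- A function on `Spec (K ⊗ A)` which vanishes at all points of the big cell `D(f)` with values in fields
vanishes at all points `γ β`. -/
theorem ev_eq_zero_of_word (K : Type u) [Field K] [Algebra R K] {z : K ⊗[R] A}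
    (hz : ∀ (B : Type u) [Field B] [Algebra R B] [Algebra K B] [IsScalarTower R K B]
      (g : Pt R A B), IsUnit (g.hom f) → ev K g z = 0)
    {L : Type u} [Field L] [Algebra R L] [Algebra K L] [IsScalarTower R K L] {γ β : Pt R A L}
    (hγ : γ ∈ Gam E L) (hβ : β ∈ E.Bor L) : ev K (γ * β) z = 0 := by
  obtain ⟨W, h1, t, h2⟩ := exists_path E hγ hβ
  have h3 : W.hom f ≠ 0 := by
    intro h
    have h4 := congrArg (sp R (0 : L)) h
    rw [← Pt.map_hom_apply, h2, map_zero] at h4
    exact not_isUnit_zero (h4 ▸ hf t)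
  let Q := FractionRing L[X]
  let ι : L[X] →ₐ[K] Q := IsScalarTower.toAlgHom K L[X] Q
  have hι : Function.Injective ι := IsFractionRing.injective L[X] Q
  have h5 : ev K W z = 0 := by
    apply hι
    rw [map_zero, map_ev]
    apply hz
    apply isUnit_iff_ne_zero.mpr
    intro h
    exact h3 (hι (by rw [map_zero]; exact h))
  let s : L[X] →ₐ[K] L := (Polynomial.aeval (R := L) (1 : L)).restrictScalars K
  have h6 := congrArg s h5
  rw [map_zero, map_ev] at h6
  rw [← h6, ← h1]
  rfl

end Groth.Agent.RedSub.H549.PathVan
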