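import Mathlib.RingTheory.Valuation.ValuationSubring
import Mathlib.Tactic.Group
import Mathlib.Tactic.FieldSimp
import Mathlib.Tactic.Ring
import Mathlib.Tactic.LinearCombination

/-!
# Iwasawa decomposition in rank one, from the rank one relation only

`R1 F G`: maps `X, Y : F → G` (additive to multiplicative) and `h : Fˣ →* G` with
`h v X(x) h v⁻¹ = X(v² x)` and `X(x) Y(y) = Y(y/v) h(v) X(x/v)` for `v = 1 + x y`.
`R1.exists_iwa`: for a valuation ring `O` of `F`, `X(d) Y(c) = γ h(v) X(e)` with `γ` in any subgroup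
containing `X(O)`, `Y(O)`.
-/

set_option autoImplicit false

namespace Groth.Agent.RedSub.H549.RankOneIwa

/-- rank one data -/
structure R1 (F G : Type*) [Field F] [Group G] where
  /-- the positive root group -/
  X : F → G
  /-- the negative root group -/
  Y : F → G
  /-- the torus -/
  h : Fˣ →* G
  X_add : ∀ x y, X (x + y) = X x * X y
  Y_add : ∀ x y, Y (x + y) = Y x * Y y
  hX : ∀ (v : Fˣ) (x : F), h v * X x * (h v)⁻¹ = X ((v : F) ^ 2 * x)
  rank1 : ∀ (x y : F) (v : Fˣ), (v : F) = 1 + x * y →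
    X x * Y y = Y ((v : F)⁻¹ * y) * h v * X ((v : F)⁻¹ * x)

namespace R1

variable {F G : Type*} [Field F] [Group G] (D : R1 F G)

lemma X_zero : D.X 0 = 1 := by
  have h := D.X_add 0 0
  rw [add_zero] at h
  exact (mul_eq_left.mp h.symm)

lemma Y_zero : D.Y 0 = 1 := by
  have h := D.Y_add 0 0
  rw [add_zero] at h
  exact (mul_eq_left.mp h.symm)

lemma X_neg (x : F) : D.X (-x) = (D.X x)⁻¹ := by
  rw [eq_inv_iff_mul_eq_one, ← D.X_add, neg_add_cancel, D.X_zero]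

lemma Y_neg (x : F) : D.Y (-x) = (D.Y x)⁻¹ := by
  rw [eq_inv_iff_mul_eq_one, ← D.Y_add, neg_add_cancel, D.Y_zero]

/-- `n(t) = X(t) Y(-1/t) X(t)` -/
def N (t : Fˣ) : G := D.X t * D.Y (-(t : F)⁻¹) * D.X t

lemma N_one_inv : (D.N 1)⁻¹ = D.X (-1) * D.Y 1 * D.X (-1) := by
  simp [N, D.X_neg, D.Y_neg, mul_assoc]

/-- `n(t) = h(t) n(1)` -/
lemma N_eq (t : Fˣ) : D.N t = D.h t * D.N 1 := by
  have h1 := D.rank1 ((t : F) - 1) 1 t (by ring)
  have h2 : D.X t * D.X (-1) = D.X ((t : F) - 1) := by rw [← D.X_add]; ring_nf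
  have ht : (t : F) ≠ 0 := t.ne_zero
  have h3 : D.h t * D.X (-(t : F)⁻¹) = D.X (-t) * D.h t := by
    have := D.hX t (-(t : F)⁻¹)
    rw [mul_inv_eq_iff_eq_mul] at this
    rw [this]
    congr 2
    field_simp
  have h4 : D.N t * (D.N 1)⁻¹ = D.h t := by
    rw [D.N_one_inv, N]
    calc D.X t * D.Y (-(t : F)⁻¹) * D.X t * (D.X (-1) * D.Y 1 * D.X (-1))
        = D.X t * D.Y (-(t : F)⁻¹) * ((D.X t * D.X (-1)) * D.Y 1) * D.X (-1) := by group
      _ = D.X t * (D.Y (-(t : F)⁻¹) * D.Y ((t : F)⁻¹ * 1)) * (D.h t *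
            (D.X ((t : F)⁻¹ * ((t : F) - 1)) * D.X (-1))) := by
          rw [h2, h1]; group
      _ = D.X t * (D.h t * D.X (-(t : F)⁻¹)) := by
          rw [← D.Y_add, ← D.X_add]
          have e1 : -(t : F)⁻¹ + (t : F)⁻¹ * 1 = 0 := by ring
          have e2 : (t : F)⁻¹ * ((t : F) - 1) + -1 = -(t : F)⁻¹ := by
            field_simp; ring
          rw [e1, e2, D.Y_zero, mul_one]
      _ = D.X t * D.X (-t) * D.h t := by rw [h3]; group
      _ = D.h t := by rw [← D.X_add, add_neg_cancel, D.X_zero, one_mul]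
  rw [← h4]; group

/-- `X(-1/c) Y(c) = n(1)⁻¹ h(c) X(1/c)` -/
lemma X_mul_Y (c : Fˣ) : D.X (-(c : F)⁻¹) * D.Y c = (D.N 1)⁻¹ * D.h c * D.X ((c : F)⁻¹) := by
  have h1 : (D.N c⁻¹)⁻¹ = D.X (-(c : F)⁻¹) * D.Y c * D.X (-(c : F)⁻¹) := by
    have e : (((c⁻¹ : Fˣ) : F))⁻¹ = c := by simp
    rw [N, e, Units.val_inv_eq_inv_val]
    rw [mul_inv_rev, mul_inv_rev, ← D.X_neg, ← D.Y_neg, neg_neg, mul_assoc]
  have h2 : D.X (-(c : F)⁻¹) * D.Y c = (D.N c⁻¹)⁻¹ * D.X ((c : F)⁻¹) := by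
    rw [h1, mul_assoc _ _ (D.X (c : F)⁻¹), ← D.X_add, neg_add_cancel, D.X_zero, mul_one]
  rw [h2, D.N_eq, mul_inv_rev, map_inv, inv_inv]

/-- The Iwasawa decomposition in rank one. -/
theorem exists_iwa (O : ValuationSubring F) (Γ : Subgroup G) (hX : ∀ c ∈ O, D.X c ∈ Γ)
    (hY : ∀ c ∈ O, D.Y c ∈ Γ) (d c : F) :
    ∃ γ ∈ Γ, ∃ (v : Fˣ) (e : F), D.X d * D.Y c = γ * D.h v * D.X e := by
  have hN : (D.N 1)⁻¹ ∈ Γ := by
    apply Γ.inv_mem
    refine Γ.mul_mem (Γ.mul_mem (hX _ ?_) (hY _ ?_)) (hX _ ?_)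
    · simp only [Units.val_one]; exact O.one_mem
    · simp only [Units.val_one, inv_one]; exact O.neg_mem _ O.one_mem
    · simp only [Units.val_one]; exact O.one_mem
  by_cases hv : 1 + d * c = 0
  · -- `c ≠ 0`, `d = -1/c`
    have hc : c ≠ 0 := by rintro rfl; simp at hv
    refine ⟨(D.N 1)⁻¹, hN, Units.mk0 c hc, c⁻¹, ?_⟩
    have hd : d = -c⁻¹ := by
      field_simp
      linear_combination hv
    have := D.X_mul_Y (Units.mk0 c hc)
    simp only [Units.val_mk0] at this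
    rw [hd, this]
  · set v : Fˣ := Units.mk0 (1 + d * c) hv with hvdef
    have h1 := D.rank1 d c v rfl
    rcases O.mem_or_inv_mem ((v : F)⁻¹ * c) with hO | hO
    · exact ⟨_, hY _ hO, v, _, h1⟩
    · by_cases hc : c = 0
      · subst hc
        exact ⟨D.Y ((v : F)⁻¹ * 0), hY _ (by rw [mul_zero]; exact O.zero_mem), v, _, h1⟩
      · have hO' : c⁻¹ * (v : F) ∈ O := by
          rw [mul_inv_rev, inv_inv] at hO
          exact hO
        refine ⟨D.X (c⁻¹ * (v : F)) * (D.N 1)⁻¹, Γ.mul_mem (hX _ hO') hN, Units.mk0 c hc, c⁻¹, ?_⟩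
        have h2 := D.X_mul_Y (Units.mk0 c hc)
        simp only [Units.val_mk0] at h2
        rw [mul_assoc (D.X _), mul_assoc (D.X _), ← h2, ← mul_assoc, ← D.X_add]
        congr 2
        rw [hvdef, Units.val_mk0]
        field_simp
        ring

end R1

end Groth.Agent.RedSub.H549.RankOneIwa
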